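import Cfsg.Agent.BZ.T.Count_m3
import Cfsg.Agent.PQ.Spor.Tabs
import Cfsg.Agent.BZ.A.Deg2_m3
import Cfsg.Agent.RC.B.Ty_m3
import Cfsg.Agent.RC.A.Tw_mg_m3
import Cfsg.Agent.TO.Blk_m3
import Cfsg.Agent.S0917
import Cfsg.Agent.BZ.A.Desc_m3
import Cfsg.Agent.H505.S4536.DC.Main
import Cfsg.Agent.RC.A.Desc
import Cfsg.Agent.BZ.L.W1_m3
import Cfsg.Agent.S2091
import Cfsg.Agent.BH.PB_m3
import Cfsg.Agent.KM.A.Main_m3
import Cfsg.Agent.S0783
import Cfsg.Agent.BZ.T.Loc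
import Cfsg.Agent.BHZ.Spor.Hole
import Cfsg.Agent.HZ.L.E7.E8_m3
import Cfsg.Agent.MK.C3L.OGS_m3
import Cfsg.Agent.H631.Kaw.Coef_m3
import Cfsg.Agent.H246.Dl.KTypeMJ_m3
import Cfsg.Agent.H686.CharKit
import Cfsg.Agent.H742.PanU_m3
import Cfsg.Agent.Nodes.HasRGD
import Cfsg.Agent.H690.OwnD.Mem
import Cfsg.Agent.H625.PHZ
import Cfsg.Agent.H713.Invol
import Cfsg.Agent.Nodes.RGDLie
import Cfsg.Agent.H717.Two.Char
import Cfsg.Agent.H759.Dl.Small
import Cfsg.Agent.S4816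
import Cfsg.Agent.S2111
import Cfsg.Agent.S2112
import Cfsg.Agent.S2113
import Cfsg.Agent.S2114
import Cfsg.Agent.S0254
import Cfsg.Agent.S2090
import Cfsg.Agent.Prune
set_option linter.all false

section
prune_inst 0x7f00000000000000000000000000000000000000000000000000000000000000000000000000000000000000000000000000000000000000000000000000000000000000000000000000000000000000003fffffffffffffffffffffffffffbeffbdffffffff

section
prune_inst 0xfdfefeffefefffffff7fbffedfddfc13838fffacdffd43ffec619f8bdf839a09c5f39509f032fe1fd6c1b418a87803fffffeffee6ffc7ffffdfff41ffbee1fe5f7b50951d48c340fbc2ff783f07f8e7f000000000000000000000000000000004200000000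

-- part: BZ/S1/Cert
section
prune_inst 0x20101001010000000804001202203ec6c7000532002b800139e4074207c65f23a0c2af60ecd01e029364be65707fc00000000119001000002000be00011e01a084ab62e2b33cbd04350087c0f807180c00000000000000000000000000041000000000000
set_option linter.all false
open scoped Cfsg.Agent.FastGrp

/-!
# BZ, simple sporadic groups: the certificates for the tables (helper88)

For each prime the anchors `⟨relation, character, multiplier, coefficients, witness, witness⟩`.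
-/

set_option autoImplicit false
set_option maxRecDepth 100000

namespace Cfsg.Agent.BZ.S1

open Cfsg Cfsg.Agent.TAB Cfsg.Agent.TAB.Eng Cfsg.Agent.TAB.Use Cfsg.Agent.PQ.Spor

theorem outG_of {S : Type} [Group S] {D : Dat} {R : Rows} (h : HasT S D R) (e : ℕ) (C : List (ℕ × List An))
    (hc : tabF D R e C = true) : OutG e S := fun _ _ _ _ _ f _ hM _ hB h3 => by
  obtain ⟨T, hm, h⟩ := h.pull f
  exact out_of_tab hm.1 h ((tabF_eq _ _ _ _).symm.trans hc) hM hB h3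

theorem pkB19 (E : List (ℕ × ℕ)) : pkC19 175 B.Fin.cols E = B.Fin.tabB.rel.map fun r => pk19 r.2 E := by
  have hA : (B.Bes.rowsL B.Fin.cols 0 166).length = 166 := (List.length_map _).trans List.length_range'
  have hB : (B.Bes.rowsL B.Fin.cols 166 9).length = 9 := (List.length_map _).trans List.length_range'
  delta B.Fin.tabB Sm2.mkRows
  rw [pkC19_eq, List.map_append, List.map_map, List.map_map, hA, hB, List.range_add (n := 166) (m := 9), List.map_append,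
    List.map_map]
  refine congrArg₂ _ (List.map_congr_left fun j hj => ?_) (List.map_congr_left fun j hj => ?_)
  · rw [Function.comp_apply, B.Bes.rw'_rowsL _ 166 9 (Nat.lt_add_right 9 (List.mem_range.1 hj))]
  · rw [Function.comp_apply, Function.comp_apply, B.Bes.rw'_rowsL _ 166 9 (Nat.add_lt_add_left (List.mem_range.1 hj) 166)]

theorem outG19 {S : Type} [Group S] {D : Dat} {R : Rows} (h : HasT S D R) (PK : List (ℕ × ℕ) → List ℕ)
    (hP : ∀ E, PK E = R.rel.map fun r => pk19 r.2 E) (e : ℕ) (C : List (ℕ × List An))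
    (hc : tab19 D R 160 PK e C = true) : OutG e S :=
  outG_of h e C ((tabF_eq _ _ _ _).trans (tab19_spec hP hc))

theorem oM11 : OutG 0 Spor.M11 := outG19 tM11 _ (fun _ => rfl) 0
    [(2, [⟨0, 0, 16, dz19 15 7 0x225a055, 1, 2⟩])]
    (by decide +kernel)

theorem oM12 : OutG 0 Spor.M12 := outG19 tM12 _ (fun _ => rfl) 0
    [(2, [⟨0, 0, 64, dz19 43 11 0x48250293c6208db, 4, 1⟩]),
    (3, [⟨0, 0, 27, dz19 39 14 0x553f7aa968700df54f, 8, 1⟩])]
    (by decide +kernel)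

theorem oM22 : OutG 0 Spor.M22 := outG19 tM22 _ (fun _ => rfl) 0
    [(2, [⟨0, 0, 128, dz19 179 10 0x99fbdd0f9dadc82bd6, 4, 1⟩])]
    (by decide +kernel)

theorem oM23 : OutG 0 Spor.M23 := outG19 tM23 _ (fun _ => rfl) 0
    [(2, [⟨0, 0, 128, dz19 159 12 0x56edb085084551a145dd3, 1, 3⟩])]
    (by decide +kernel)

theorem oM24 : OutG 0 M24 := outG19 tM24 _ (fun _ => rfl) 0
    [(2, [⟨0, 0, 1024, dz19 971 21 0x3c1fc0706f915838f79868c23d9b41eff445ad67fdd13e0f1978, 2, 1⟩]),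
    (3, [⟨0, 0, 27, dz19 29 19 0x22e46c1719cae1b088c4ea8, 4, 1⟩])]
    (by decide +kernel)

theorem oTits {S : Type} [Group S] (h : Lie.IsoTits S) : OutG 0 S := outG19 (tTits h) _ (fun _ => rfl) 0
    [(2, [⟨0, 0, 2048, dz19 795 14 0x16aa607d078dfe95392dd1cc236fa9180c, 1, 3⟩]),
    (3, [⟨0, 0, 27, dz19 41 15 0x1042981ae6dd49ef4ba2, 1, 3⟩])]
    (by decide +kernel)

theorem oJ2 : OutG 0 Spor.J2 := outG19 tJ2 _ (fun _ => rfl) 0
    [(2, [⟨0, 0, 128, dz19 91 15 0x9ba27936fb32c1eb7f020ed6, 1, 2⟩]),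
    (3, [⟨0, 0, 27, dz19 35 16 0x3d76f823233ec179b2b2, 9, 5⟩])]
    (by decide +kernel)

theorem oJ4 : OutG 0 Spor.J4 := outG19 tJ4 _ (fun _ => rfl) 0
    [(2, [⟨0, 0, 2097152, dz19 2099987 44 0x3b20a3bf4e8e5823c9b4f2dde93b6871a55106fb2f0cbc8f090d50f94cc366141e204857bf56f14f9e056faac5731450238887d87de29f0b76577e0253924cc9767a8fc07b875d5b47353c3c9428b465c3f0847fea1a996dc8c1ccd747fd3808be8e89e39b2367dbc21cb3ae96113109b182588, 5, 1⟩]),
    (3, [⟨0, 0, 27, dz19 39 44 0x315bf442fa7f31ed34a47bcc7fb49f658db0d1661e26d196375413b668, 18, 7⟩,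
    ⟨13, 21, 27, dz19 27 36 0x3ae987b291f83ecd48e02ba7a965e8e37f2bc6bc94d, 11, 1⟩]),
    (11, [⟨0, 0, 1331, dz19 2299 42 0x186263acf429b8d915e400e9c60ece044dd6a72a647fb35b6770850121a37912f92512120fffce709ce5fc6f1e67809aed1d568f02092948eebbf, 18, 1⟩])]
    (by decide +kernel)

theorem oCo1 : OutG 0 Spor.Co1 := outG19 tCo1 _ (fun _ => rfl) 0
    [(2, [⟨0, 0, 2097152, dz19 1438919 99 0x28b3da28dfb4b7191caa46c9658a385f523b435704f8a59b569b08aa167bc99f16a4a735fc04f30a285df17dd8644d4d900176b10871689f04506a756d95aebc438718d640b2cffe5e51e3c4bdc139eb18bbdfca5fd6fd5db7fe8a5895253f504da3122e5c09ed740aa6fb26988cda4ee7565cb322126df40014a7883b7e93664d3ce3bdd78bfbbad62cd58eae6aef04203f386e0eaeb195367454c2959abbb77ff155c7f28f1995c9e56a7c7fae9be769b74aa8b4f96fb683bd46c3ace3b08a66085baeea1f1e655c551470c3e4100b8e351ed5c65f977064d40dcd193292241817a8bef160c18e67ee1ddc67250e6c67140e420bf9f881e267316dc6, 1, 2⟩,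
    ⟨61, 61, 8, dz19 11 95 0x246af81b72ef7b09c407b1c2344369372d82df649a2df322d1023072d7d7dce326b3034675059aa160, 45, 66⟩]),
    (3, [⟨0, 0, 19683, dz19 17567 98 0x95396135b0c7080900ccc5c6d9e502277c463773868a6d381653b9320b9bce19068fdd91ed460a34e17a3e895202c13aadf606498c22ee0dde06fed7718545ed95a0be87eeb9b3184b09a386712f4b73b0b3515fd9cbe2e52a1b83a96e242bffebd3056ca3d5e9ddbc4e97e38518cc7fcb904bcefa9a60c232fb60b5bb5df22cb2007054d56cb2d5c7825efa2d13e1857495668add6867c068786c154d142e0bb49b5a78e6d6a49f5dc99e849, 1, 2⟩,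
    ⟨17, 17, 27, dz19 27 99 0x17a71ca793dadc7c38ea8e74fc7da9b981d9e5d4e70c22f12e235d1c0117429a1221e9371183fb0a2455c9f8f02cc83677df967330ef658d646bed, 35, 29⟩]),
    (5, [⟨0, 0, 625, dz19 853 99 0xe518fc5a3b026940b06a35925e185f9d2ffdb06a735056b91cce80bb7002a49502cd8d99e478899f29f653048064a52700f3d848a5ac0bc26b192d265b5fdd24f9bbecbfb3c4a4925d7172abea97c22477523b49a3ab2fce0bb3b78e8dcbd66989b4cbe29a446136d365255094768923082501e626d21417, 4, 1⟩])]
    (by decide +kernel)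

theorem oCo2 : OutG 0 Spor.Co2 := outG19 tCo2 _ (fun _ => rfl) 0
    [(2, [⟨0, 0, 262144, dz19 165807 56 0xc2b30c00dfa75f01e68e974de2141564b85ecbc6ff72d9f2ebaee030ac33c7ba7c9bb030c676929f349cee967b0e2ae2c98b440729809aa7340fc5cb328109b7f5b129dbc907f8b8f88df1bd492d88fa4fc7ccb7b521d447bdea5134516b7acd48bcfe7cf2ffcc720a84f6351cf9be95fc748fd2973a8f9e20, 5, 1⟩]),
    (3, [⟨0, 0, 729, dz19 821 56 0x4ab2bf8bcd109d2ed7dbeea32e460dd1900c0c807045eb63869bed3e3759ce27ebf2b909a9db6eb804ce2da8d06e137ba8856e15ece96f8bdfc626e6767d52df0c69e00, 6, 1⟩]),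
    (5, [⟨0, 0, 125, dz19 163 56 0x16a8a89e4b27ba0bf81a8d845dc8bbe96c844629c5bf516c6d2e1bfcfe647628b0b895c965caec9eb9a259cc3624f0eecb5e3ea, 21, 1⟩])]
    (by decide +kernel)

theorem oCo3 : OutG 0 Spor.Co3 := outG19 tCo3 _ (fun _ => rfl) 0
    [(2, [⟨0, 0, 1024, dz19 763 37 0x8c3acf2b63cd2ef5c12d0abb7e2a88d5290e6b60671b283ebe9cee5cfc80f1994a2823565b4321d5ed8f129f, 6, 1⟩,
    ⟨20, 20, 8, dz19 11 38 0x10033a200e1697a524009bc6caf8d8948, 0, 23⟩]),
    (3, [⟨0, 0, 2187, dz19 2525 38 0x2ab1f83dd60523acb1502ebcefdb7b52e7035c1b0d5e0f8569713e78b4af31413eee87a509c97589b55cc6669944864d6be0b088f66, 8, 1⟩]),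
    (5, [⟨0, 0, 125, dz19 175 38 0x5aa75fb4b45f66d1365fab6f4d21f7982cad3d134679f38684327b99c1e4c9da8453b7, 10, 1⟩])]
    (by decide +kernel)

theorem oMcL : OutG 0 Spor.McL := outG19 tMcL _ (fun _ => rfl) 0
    [(2, [⟨0, 0, 128, dz19 131 18 0x6ac3ff460391e3f713f85c9bb053875, 1, 2⟩]),
    (3, [⟨0, 0, 729, dz19 989 18 0xef55bde7db0f520a0ff6dd7a618083542143dd2ce985, 2, 1⟩]),
    (5, [⟨0, 0, 125, dz19 199 18 0x23915af6cb40e5b64f853b5e7847a0bad7, 5, 1⟩])]
    (by decide +kernel)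

theorem oHS : OutG 0 Spor.HS := outG19 tHS _ (fun _ => rfl) 0
    [(2, [⟨0, 0, 512, dz19 451 20 0x2f4c1d8e1bcd7d8a9d2ea7be544208370d582a09919, 1, 2⟩]),
    (5, [⟨0, 0, 125, dz19 173 21 0x3be1e29fa36fedaeac9256df7606eeda14d64bb, 7, 1⟩])]
    (by decide +kernel)

theorem oSuz : OutG 0 Spor.Suz := outG19 tSuz _ (fun _ => rfl) 0
    [(2, [⟨0, 0, 8192, dz19 8263 37 0xad726b5a7a729b708476ed728d6780569186833a6e625fa36c9d50c12aac9ede364864f7001068445c87dc5e11c3c7fc0239d718a323630c293b6420, 2, 1⟩,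
    ⟨16, 16, 8, dz19 11 31 0xdc3e1ff4dd3421dbcb4c405836, 18, 22⟩]),
    (3, [⟨0, 0, 2187, dz19 2091 36 0x170b64c26ca82f3f2e6f92a3da0a4f712bb44a416db1c0a85bb7f0a0d3950127a1d0ca8302cd9ec23651384f322a6eca655, 3, 1⟩])]
    (by decide +kernel)

theorem oHe : OutG 0 Spor.He := outG19 tHe _ (fun _ => rfl) 0
    [(2, [⟨0, 0, 1024, dz19 827 25 0x134e25b938543395143907fffdb672fc4536fdbde66cb812abdb3977ff04e, 1, 2⟩,
    ⟨3, 3, 8, dz19 11 9 0xfc3532c, 5, 6⟩]),
    (3, [⟨0, 0, 27, dz19 29 23 0x24b1e8d878a0f1dba18efe998e59, 2, 1⟩]),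
    (7, [⟨0, 0, 343, dz19 369 25 0x5222188bfacb0e122254859b94cecc7788194ecc2c0b50d1d28b1, 9, 1⟩])]
    (by decide +kernel)

theorem oRu : OutG 0 Spor.Ru := outG19 tRu _ (fun _ => rfl) 0
    [(2, [⟨0, 0, 16384, dz19 6403 28 0x3cb44b5c8e41ebb763eb6ab2ff4df125f4161fc9da6f0e9e4afa940f11b573fd8907c06bbf297bea42002e77, 1, 2⟩]),
    (3, [⟨0, 0, 27, dz19 39 24 0xecb456687eb6a20533be25af03a9270, 6, 1⟩]),
    (5, [⟨0, 0, 125, dz19 177 28 0x315fb8d638a63c87bd6ea8ecd3fe5eb3c7956599b85c4c3d919, 8, 1⟩])]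
    (by decide +kernel)

theorem oON : OutG 3 Spor.ON := outG19 tON _ (fun _ => rfl) 3
    [(2, [⟨0, 0, 512, dz19 395 22 0x8ad52cfd9e030248f856ce28913ef5808b75215152812da, 4, 7⟩,
    ⟨1, 1, 8, dz19 11 8 0x6f8c70c, 6, 2⟩]),
    (3, [⟨0, 0, 81, dz19 149 22 0x2470f7f3f7c22e1ce5a00a2aec414dab53bb8e9, 0, 2⟩]),
    (7, [⟨0, 0, 343, dz19 599 22 0x5b3662a973123502d06929534a799a98a11e66cd330335b212, 10, 1⟩])]
    (by decide +kernel)

theorem oLy : OutG 0 Spor.Ly := outG19 tLy _ (fun _ => rfl) 0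
    [(2, [⟨0, 0, 256, dz19 251 37 0xf3d6e7d30193bebe2d3886e08ba8a6237195f855f53ee6c8981b267054f410a809f360937, 2, 3⟩,
    ⟨1, 1, 128, dz19 83 36 0x8bbe3065e9ac0f7981c83782d3d81c2a77f74d3dddb3395da0a2f4d83, 6, 5⟩]),
    (3, [⟨0, 0, 2187, dz19 2525 38 0x1a4dae53cee178e1a7eda9e2563141f5c8b83598c799743ec15af0277a4b5a056461d782f8ef3a727e9e79ae79ab76595d90dedf64f, 3, 1⟩]),
    (5, [⟨0, 0, 15625, dz19 25543 39 0x66ff9dc5befe29d95a5193715be0e4298dbdb5d124b71b7670a51aae4b538938afea2e1ffae9167b6bf2984c1221635595685ea4b2cf5d1201fe255eb77a2bb0ead4d2af9f0b2c, 3, 1⟩])]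
    (by decide +kernel)

theorem oFi22 : OutG 0 Spor.Fi22 := outG19 tFi22 _ (fun _ => rfl) 0
    [(2, [⟨0, 0, 131072, dz19 104215 59 0x139bf1791b28e0ef71c273c90da16919e9a4376485f1a337533eced417cdb04f85389ed2e3f25f507fa711fe493d77d3048093708939ff98a3a7400afc22677fc979a0bfca307460eff0fdcaca161699a8cfc29ec68b4db37464715e4c088ca94d24ac70962e24baf6affff9036f6551e9f697d55bef8a6f4f21f0, 1, 2⟩]),
    (3, [⟨0, 0, 19683, dz19 24867 59 0x325dd01da67311745f0787b14a12394b21170832db00f4d350e177bdad87e61a5c6406d2f55a584cec8363011d99de00fed68cbf2e27b3ab580c52110788402af48fd6d4fde2b343057bd31c61bf43e40a6e544252b8aa0351bffdd2d96ec987fa9cb58d38c6cfc012dd07, 1, 3⟩])]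
    (by decide +kernel)

theorem oFi23 : OutG 0 Spor.Fi23 := outG19 tFi23 _ (fun _ => rfl) 0
    [(2, [⟨0, 0, 262144, dz19 187291 91 0x6bcffa0892c94fee1020913b3070f2414e5994b8280b0b5026269acea9f0dc3800e3c6e62dba6040719dce2bc6e130a9c831b33bf0d511b58a9ad4c63a71f96194a1892c687358c7716d7b3b82833642385712ae32a073da781c4f4ec3cab1a965ff49f4d524ffc1726da2bdd4d3ec03ba58b04a7b6f7a522f7cd1d3423e3c43e134481c5c423c0dc6d7f36a889ccc805a7b9abe8cd25d7b894ec6dde992eddf6543763499542e2fb792845a097e97f74210b421cd8b97cbf0c7d2b6ab34d3acb516825c4007dc, 1, 3⟩,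
    ⟨55, 63, 8, dz19 7 69 0x1110118bbedd73da8e5d224d2be0368e13c23ccc03b0d6335, 59, 75⟩]),
    (3, [⟨0, 0, 1594323, dz19 1745417 92 0xe753c23afb8abf32174b62c0cf653c704ec3afa584264fb02cdadae6e39cbfef0da01ec4628911b6cac9b7e1a2bff8acffa579dfc2b06d059e2ba342a9a5a5c38104977200f22209cf467711695f7160117de3e8dfe137c72a5ad0276e8135379e79f59f7705f5240edc4fe57b10af1a786385a3bfaee2ed96ca864bf5840810bb41e757a92f8d75875f20b0f5341e7c802ea25050cc81fe5221e92441305e01c9c41833bf5b48d7210547daff71c00073bc6b923b66a518a46a7d7e6a105a6f7dc9226a24b84a202af4617e46f14d8e076d9ca373d590fb63934f4c38449dd6b5a28cf8d3e7cbeb1288e84ea5f, 2, 1⟩])]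
    (by decide +kernel)

theorem oFi24 : OutG 0 Spor.Fi24' := outG19 tFi24 (pkC19 F24.consT.length F24.colsT) (pkC19_mkR _ F24.degs _) 0
    [(2, [⟨0, 0, 2097152, dz19 2126247 94 0x131e8ec4ef5f2e07bf15429df074c633c9f8dc517e76ea0ef1fa458b927175fa0985cd4f3054566f3f24f49664e7408aadfe9a4779afb2cbaf9559481277ba7f75c7e34bd3d26482ec8b73c3d2688f1b68d2265de0d4d1846b2aa9229109ce187da059f7a0fdd4bbaa9a156e15513cc286c741bf64525d422a92d17631474b59914ceeb9939b528e538dba69f51feaf46db25c013589a3ff8cb77182423128c6cd4c946fd25ca66aa061c03a608ed8ca1eaa9793f378e8cb6506d9a4f5af62b7843939fc9a52af69f541eb5d2902c1f8404e193b9a6a840f8b193782c15bf385538f0d41cfc3c471044fd9e863191f6ab5e32e897873c6, 3, 1⟩,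
    ⟨45, 53, 8, dz19 11 76 0x2bfa7d4f9f54325edee761f6988c18df5ad238960e052aee385513775e457f41d7, 103, 70⟩]),
    (3, [⟨0, 0, 43046721, dz19 37735391 94 0x4b661bd6fdb2363186e1b05c27c81d0e8361c3eeccbd210cac06b20edc28b770c42ca7479f065a07e844cbd98fe28303cce9f9192a83d3661873541dcb0ff13e25c4bdb860ad1e25f7ba8eff0b23f3ab14220d1b9a087df3be6e4d72d2878712f5727d39f9987b701bf25a080c1b32520356dfea46e03690f0f2d5b4c8e9723e1e16f044be97acf6e40368ad289b98d529ff8062e32e1f5dff2b59f8481e0424211b2b395542176bab7dbb63543b9928a75672b2292c35b973df463ad4a66ada599ee437b8a7e66a3b626dc1572d3401e1778cbc9bc2bfe477d728b8e27be4c05ea5b46183046b5831dbba537863e893ae01e6cc64c78c16f9088438e6468c91b2e95755eeae72823e3da984da7cf356b14d97f57c51d1c7ebba469ff41112e36346bac4c8dfce7, 2, 1⟩]),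
    (7, [⟨0, 0, 343, dz19 535 91 0x377244097bcb817d46fbc2bfadeffd9bc8cdce2036a8cd6fb975759727b394b036853e0510f9a9cbe5aa7fd7e0983bfe5bbfd69690d317433b1746d23f7e92dd9876b906b03ee00cef9944d7bf5db6397bb1e12992cb88d9c2103292b17ab4aeafefbe2fff3730, 24, 1⟩])]
    (by decide +kernel)

theorem oHN : OutG 0 Spor.HN := outG19 tHN _ (fun _ => rfl) 0
    [(2, [⟨0, 0, 16384, dz19 14671 43 0x2333044ea1b747bd87a76189e000565bdd896c00ade84f80a4927293ace2186faa516798a711e7946ae88a6476ccd77f16de78588e1ed2910dc1d96551b30480d28e701d3ee6195622a9d, 3, 1⟩,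
    ⟨11, 16, 16, dz19 15 39 0x2c138f8470169a4746ef79b4f3934155b7327d, 33, 36⟩]),
    (3, [⟨0, 0, 729, dz19 929 43 0x9a627c16c6d42928753c0f57720724dafafc65f5d4d1af0fb8c183d3753b4539446f3536c4dc28fc293e81403c57f17c602eccd6a, 5, 1⟩]),
    (5, [⟨0, 0, 15625, dz19 14715 42 0x118b7935ae59deef1d1eaa8493c35c71ec05fc7761b8f77d4e27cd98a5bbaf99de7f806c2736eaa23e5a0fa4183d77fdf5085f9b71a7de50e2ff2f07a5ded9107a7e1d3678b3dd4c9, 3, 1⟩])]
    (by decide +kernel)

theorem oTh : OutG 0 Spor.Th := outG19 tTh _ (fun _ => rfl) 0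
    [(2, [⟨0, 0, 32768, dz19 28075 39 0x1004e568e7d64c6e554379699055a776357f76af014cb0e67ec708d4053c8d4c8015dd942e4aa0f7a40140c7d95db2b38c3ae09f67d846739ed56e7699751c32e2f29849f6a55c98, 1, 2⟩]),
    (3, [⟨0, 0, 59049, dz19 31773 39 0x1638960be0596a606a0be8000a57f6363b01a8325899b6a4516930a793d2f3353f26cd69719883ba9d89a9608ce493a7d80992044c3d0fab404a72d5993a8ead6854d487047c397750, 9, 1⟩]),
    (5, [⟨0, 0, 125, dz19 203 39 0xc2a4d35505fb2df850d94701af83482fc7a6386b411b79f1bfc864db30ed1fea54695dea11, 8, 1⟩])]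
    (by decide +kernel)

theorem oB : OutG 0 Spor.BabyMonster := outG19 tB (pkC19 175 B.Fin.cols) pkB19 0
    [(2, [⟨0, 0, 2199023255552, dz19 1576933926675 175 0x8b3888af2ca92607565feb1ac20f5541590f423538e34e2bad009ea34373ca06f0f0551e72ee11fc6b4c4d33ae36f6eb48de59231798bdc1c699b423c2b1a900606efc8711a27f594ff5d13987f7aece573946be893cd4c3f9b3745e1d0f6516f69aa75c6db92afaa2cace20002edd2db2120b8985c8a2dce785b3d965b1619805747551d37087523eb2476c5bb4039238cf3bb275f896509fa5de17a9663e558babd1bd5a8ac024b2e49c2f54c6fc651f02a382271e1b194f338ab70054c3086938103245b753747d083dcf739e750a8cafc249ae89e08539d0046933622c5340b32d5032cbdbb7b407e93582627648c72ad0bfc4f9bc0f3bc96d2ce9c4ee2616e3a74c59b117238601be5b23fb3f1555b6373ff8be116df572e507ebcc920fdb4d495996f452109ee5fa5bf229b0d4d2fb2cf617f1a2aa0894b4f07c5f344d50e1c2b9635d54ba9247f01fbb7fe69ee2e2bda8008ba774050f1e8afa13be7b2266b52c24888508603d3b330ba8cc6ff72ebc8c878d101e77e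f27f4afc862569aa17d8790fbb53e7fd51a72c06663c643694b855a8eb9effbbc0b7530afc1b94485c0214ed8cf9e5ebc9a0f360ea9f060342edac9dc6cb49a3838fb4410e87740c7d9460ee948cb6486c6f8a16072ea3398ae500a37aac9a4a4117e26775e594791d832e4754e9a00a8722f66e0da949765e88bbfa4ec7f62ab13ff2eed77e795b200e3e66fc1d2862d854f5361917c45a396fd771f0e744f26222a11464e204f67edab7489e6bad7fbb9f08b7e5b4cc7548b2bbe7973bc0e14f47d58f7d740370b8d48b5b91fbd42e6d43057b919aee8bb2d71229da3b08e119790104c1303956dceea04d47ec5565ba4991c8a2f94b18e707841ec7684e1afa15f0a357db33976afcbcf641e1c4c41d17b79baeb903300fb1b1d35dfb1817ceae0f851b166030c8adc0c9efb9f65f12d3c7682665f676dda1cb148377afea738ad9733b887d4d3db3f2c006691d6cd064f9b304775449fd1b8fdf2b51d047efbcf10db139e5ccfa36e6a733dc627d7d82c728280cc7e5c586e54441c8a23abd7c74c244265e24039088526a1b3b373fe275aef76cbfa1c2b71c8f3f29067fca8fe32ec155c19e5dcd5a341e7a7fb146d1e9d810255c16e5d6e55dc8dc34f5d324185f225e17bc0812eedaee87b10ba2018976e75fe35e68ec9bd43c392f06afa98ef5b9753aa8f9c035a8c95e259141131ba280cd4521123572b63,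 3, 1⟩,
    ⟨150, 150, 8, dz19 7 161 0x52ad95a6659bd9240ce189bb34d2ec1445e2402fe29a21d8e66b7ea8b3f78b2e3071fd07915c0ffd3c0860932a13f0ead5dc16c4b7a45f273, 106, 159⟩]),
    (3, [⟨0, 0, 1594323, dz19 2061935 175 0x6f5366fc2cd58b9076ea547b14713cef6d76caa0c7995b08ad4013cfa81dea71623425786b7534de7333d399ef27f392764eaf1e682e6c9d5ab197b28b4638b5ae138c448e00d138164e317d200145c265b1fe3b1d769612c8cfe52da3a6276a277af55bb060ae059deaa77485cdbe385e0fa5bbf3f3d1a1c2ecca56e9b5c1e87913da97b8d9920b0662d95f9f92f7b1d639acdfed57fa8428c7615ed65c40e029641c946657f5c47f269503e5d7e41b76b78a4f39efceebd7aad9a1a32a4089a08b89b84d1473e86932affdb149df5aa3710c8fc86a58aed9f4735e48380206ed2b7d4c7a3ee32fe9508ff9ff58f2a32d631cc75fb1c571b2bedcd1a61e24f1b2b4a2eeb90df7e915df26eba1563ed995b1601ce4ba1f3e43791f7c5c3d39fd54e10c545bd4b5f7fbaa81dab6f0ef1e26d98c9ae47744bf9fdfd8a55e3308eb1b3170f0be92c11bb7e04a2d2f48911f040c53a46c55a2ec9e2dc7160ce5bdac3618383653d9005d676a959218a1bb51bd29765f996695d0b82086d2f256d9beb68a6f4134ba9ea42665af01015c70c26394a3d82cab11dc3b795ffecc287affaa69a73989149a0da03145fa45f8dd17fa3446c138d20ce9809db01a6ff5bbafa4df0e213cc70ceedc5a4,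 1, 3⟩]),
    (5, [⟨0, 0, 15625, dz19 23073 170 0x1e8766d3b68b5a510f883f53074a77f1dfac7ca4ff85566c69ee6b2c53ca67a7a282202e4476b7709f82aa6b9ebea477f343c1a1510635085dda45761ad6e3358fd556821e2261f48e23c8f182a8b15d665225b82f1367c29a0a1c5fd29da9479f50134232e34171179f698590a51314a49f9e6267e22b62990a730c9f3decffe0b4adbec0273e066309625518990b311339d30a54006567e487b33a2b62c80cd6aec4f7e4102e9a340f0663ea6af8dc838d744b2b999e19597798dbb0d4c9b98fbd0ff0d9c36f0da9614e2b2e9ad18876cefaf97f5b7ec2e6ac8560eec0d0448e330dcc523864457cf44f9512bb78a26894926d2d4f13dbeb158d13eaef7caed640ad586973dd3362df9e6ba08ec7d1bbd50227bd215a1a7f3234af7f516647aa5e1835bfd086725037f94020dbf9b59db97f3a, 2, 1⟩])]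
    (by decide +kernel)

theorem oM : OutG 0 Spor.Monster := outG19 tM (pkC19 M.cons.length M.cols) (pkC19_mkR _ M.degs _) 0
    [(2, [⟨0, 0, 70368744177664, dz19 53028984691739 170 0x3110e47a1920d1ad56b25d43c1052c9e1d9689788f46091aa9bf5dfb3639528fe5198b063ad1cb3154a1c83290d45170f97ec023f39767e4967e356a384811a11f25346000a387117f02990f0bd6c41c23ceae70ee5ba54a257cbdcc42f379409d524656ddb7ad171c37f53f37df606d7d1e0c3e8bd1692b390a1354fc175c5c04e0cc34073503ecb0318754272ba09e07af2285de2d7f4f7ef3e4d7b22671fc64d4d7ba53a5da199b22f22c4a999bbb5cc27b90277a1e05d325b3e27d24738ac89a295e7d650337de5c11198fa7497c739e41d8123371953cd77b33112dba689d0368181275217096fe81c425fa43c7aaaaeeaf1944e788eca88332c146f0a6e328b807e65bb4aa3f98849006c9f339be3664fe88af2ca3352b5c1cb7547c5ace29a00d3c9851b2166caf79032c1c2c3c16805777c3a5b54d8158e43e36b723a8e7452883dfadce2dacc69e352f94220763f1d141ac0944e3f5a517d627a40b9fc8db8a8b230d0bbfb2eb0012cf70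bfda9d16b5d495ecd7e8f18a39baf8ecc627eb86fbdf790dbf51e60a750e54dda7b753002a937ed06d43428d3180aa65c4bd965787b70cdd78867c2341faf779fd7b4871164ababc09c2d67f865e1cd30414d4991368931d1505dc236dc0641ee4ebc2aa5187ea5dfc793889ed2480eca11df9d135a038164c79ef991576a6efbc0a3c535811ef4a2fa9009274411d8c0d701db79b0e450b482de20bcf0ad96f04548c38429cb7a0394b758d909c9bd1e40731c392ca05b00d46c4f626e6627f20af4f1ab108029295ea0758cb31188f7bc8d61812566bf538e4fad04b1d193b27eee0b3815959ef850a52132286d5748a55caf52d090d5c65e3901b88ff9c9c100c7aa6d6fe5d1342524b741ee5e4ac2531ae923f468863e33ae8269c4aac9b56a29703209ec0f12348472856c35e04fd1a899c03a72221546f2a7d5139ac2e05bcf57470d2cf2be3349f3a312085a6153fc97b87df2f68b1b8a56bf73b23ed393c189bb0c1edc167cf188e3c82cf075b04ef4d784afee98f442efc9e58864544b23d7e6808547c08b779b1d6845ebb527d23f4cc1cde638c45dd0141424bcee9c7f61a5a426b0683ba73461345e0a12199bf9794b2f2cc88fb038029ecf66b1877d877988547e6e6d33c56d9670f80562dac6f4a2e70c04116d825b24a2f87c1fef48c34314e8b58be79fe2f94d5ad6a59ab698d66bf2b3fdcc1a18b662d003d66a0a6f93de0dbc4f66a3232b4158631c2f589c54daf0ddeb2705e796aef64ee7df1e5707a0738c83bf28679a3ffcf4f53b4f6e705c48e09b0b5982e30fa5183ff022ca9825cd09fc86df5e8387d963f18cac10876d3aede2,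 2, 1⟩,
    ⟨107, 132, 16, dz19 15 152 0x1eb4e81f259b68e60428c43f8d8ac48fdee271d5d8a34d3470d011913b40e69d316bf050f3fff69f4413dd7df7d1fbcbcd24bcc6fc6c852cadccce701240051c18606a6f6431a1d55b950, 122, 139⟩]),
    (3, [⟨0, 0, 3486784401, dz19 4025623221 171 0xf0848643d5e99a9dc2e52c80a3558a9640a11a472bb7dd7c806ba31115b991add7e21944b4f71de79e3aee0e3590ccefcdd856631fce68c9a08ebc843c307706ec67aa583f5dd5a36e90f30d1cf1071d5f45c2aee5de658f0f18bcd890a41187a72c1ed1cac1d8b7c45e6cafb5a354c4887930bd1d5862067d5e7acd2a7df667878d721d747e70f67487ac0583db73b618e00013ce1885d5d76d5f2ac16bcd6a6c04fc6d55bc0160863af74aa202918c871985ff04297601e7f3ad90267982e9c9ccc783676018d592bbb48deb54debacf46d1512372943da54642df8d104b98095ec416a5b92e0c57059712289d50f90f9440b305735f9485a4b088fae734f382dec686a0a3e9b5e7b3f0f28f5bf421bb42c932846608c12a15bd449964b04f6fb6a1b67781ad16269023fe005b59bcb6655bd4a46d4ba3a424b504d895a16bb1968000c6e4442d500bc625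29eb851c9ac349bbc404fd70134221bad11662c1935307e3cb72acaa53d16441532823312adf5eb7271d979bcc23613ca8623adf1a7d24091d28e4ba8dbd37e25b4f2b089f83e42b5834c8684a8d25ee8f646e54c0cb456b1dea687abf48e7fefee41646be5da52ca24d91fd3cafcb3692753c17021372c488478004d78ab30d3f9668cc5bb29612378569832d47f0f6732a774f21d38483bc64c1741434e07de32bc84a7490b7fd7c07b590182935ff0d0331f5b89ec1d6e631dbd6532a455d34b24e75ee3a035de06369f75491ff6c815a1db6ed0225c64763bb51b117f2689797579280810fd0f967354231423f9b6a26d37070a24c670f9d347035c86d3d32f4de84fc575a35589e005a4472bea3a419fc704e36212d3cb3c1d6002182266fdfe44ea8ae38db30832eb4600d352ffb92f10907997c10298461ad2323cae300f20e55d19cac2ee5b0e4bce83111424fb8177493e63fed5af373c96f1, 6, 1⟩,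
    ⟨54, 65, 27, dz19 29 159 0x5e92a5ca2b9ac85e4b28cee042fb0a1bae39d0acdf6e5102e07a2cfbcba1ffe1b5a7a1f4f6c41a688ebbd6691feb0aeb1ae21ba06153bcb27cdeb2d5cbce58d41f4e3caa0146ed046ccdadcf58e313ebb1aaa9097f284c127ae7f792b66404cb8, 70, 76⟩]),
    (5, [⟨0, 0, 1953125, dz19 3053123 171 0xd6a51616fca20fd99b961a8324ac604d99f266bce3f8c9193f6d1de1f9d92b3708c550c4c22776888a55f037d4249e743060ae19442c9d334b6df3338736ba41c005a1c866bfcb8e3098203d145d79bbec8589102dd673ee77bdd7c857f75185e5a6137e03c006026345165961da3ad9cf7b6cdf81ea699d064a78dc7849a157af5bda8485c69157bbef371a51a46c0b8c534be40622387fee6bfbabf108e1b1ff8e0d86434567f3147bf22580cd0564ff37b5b540b69ea9feab501b39a1675f891bbe1a91aa0c472bc6e3475275686000335ba3f213b48b1ec7caf86c5ab605b22e4cce2b2f8fc59ce35b19487bfc76abe065734e4052a6f820d3d82205ec406bc77ef5972cb22349a5304b3478009255e5e375b8289ac5a04c64b4dad8462e965382709a66b38a92d44a99f11c9347b76de3280d7277b09ba4922e7e92748dede78e95762ad0ca6c5b677884912d3b2277d10bc7a6b11d70a3e5084b2c8231abe3e93ae4d92f7d1b9f3f69372f921980322a2010817d03d01e64a91ac5c62b97f312a275731561228c778a828a956e39c55bbf9a7377b4937c92f0cc277f56629414b4fb08438070ee962c82e1d7501994bdc44174e5ae49d853ba94290c6696ef6929ce3f89712387336f,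 9, 1⟩]),
    (7, [⟨0, 0, 117649, dz19 195093 171 0x2094b04ba606ede2d25fa097307e03ce421ab4b5c2ce459a657e2b4e73b45ac7908b1bf0fb39ec9af6240638b029b4bd35af8d6f3c2c8f04f60af4428e48a4b353edbfe8ab6949a3ebd5c45df436c539f61ffa8cd980dc1b7f537246266a0d39418990c48789dd8584180004080460fcaca5a328296e9d07056f7557286761b83cd6ecfc827db6e2a26ccc654ecdb0b45dad7b362d6590e43c8584319403c5f5132e2c532577df7f97acfb2aadbeffdd0c1bef8598164213812445cd4f036aedbee7c8f510525d7b00cef0a795b7675f4e202d7edd98736e7fb1dd56b94fe922997450d777929e07a8bf375bb8c1a9e8e4d554a27bb30aaddea3964574fb9906102d8d39ec95586746f3305d4fa57eff7fa0645ecce81baf1fc0ea328137e68ab3876111be777a42297b8a027d26408fb9ba300c4f68d8f77db3285a7a51523090f17642102bbdf94ff00b24c9f909619c1bbc1ba32d3b4027cf36490f2fcc6412f65fbe68ef63f2114b34756a00e147bb37554a15f9720, 4, 1⟩]),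
    (13, [⟨0, 0, 2197, dz19 3837 171 0xc23ffb442a42803bba0589e89d5849d654211ffa5847c6810214ae7a15d8b55b5b8add7faeb266a0b6fdcb3aa3fa5a20cd4d5141527100ecb60f0d56e4aa3f8da83849a1f244a519f9d38bfac31d1a027ba69ae9d36f5f33583e8a26c68a368283e979aa5517f736ed2793414373a073ca7e6a63f79f938fc9a52351745313f6fb3af4817b67e63d28c8ba6825f775279c06a8e00299f397c1a06b42811ee9080c16db1c5d05058bf889e994ee2c2b20abb1e4b5e5d851a919aa9377c7e9b5bf354261cdb42097ece5dd2162cec242166cff37f12b3aa3465a304b331c92f78b652a10aa9e641bf668220cdf39f7c0fe66972940308bb60aff77050511da, 43, 1⟩])]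
    (by decide +kernel)

end Cfsg.Agent.BZ.S1
end

-- part: BZ/A/Fm2
section
prune_inst 0x1000010000000000000200203e46c6000530002b800019e4034006861d6320802f60e4c01e0203e4a2654039c0000010001900100000000086004118008084814262b338bd04340087c00004000000000000000000000000000000041000000000000
set_option linter.all false
open scoped Cfsg.Agent.FastGrp

/-!
# BZ, type A (helper65): abstract frames

* `red2` : the reduction step for the cells `LC`;
* `exists_fm` : a subgroup with a block which induces all blocks with given multiplicities;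
* `exists_ab` : families are blocks; a large abelian subgroup of a defect group.
-/

set_option autoImplicit false

namespace Cfsg.Agent.BZ.A

open Cfsg
open Cfsg.Agent.H577.GLB.Std Cfsg.Agent.H614 Cfsg.Agent.H614.GLn.RSt Cfsg.Agent.H623.GU Cfsg.Agent.H112.GLB
open Cfsg.Agent.H623.GLn (exists_t2 induced_of_pairing)
open Cfsg.Agent.H117.GLn (SchP_mem_PGen lower_mem_span)
open Cfsg.Agent.H794.EM (vz)
open Cfsg.Agent.Blocks.Local Cfsg.Agent.Blocks.Basic Cfsg.Agent.H592.Transport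
open Cfsg.Agent.TID.Red (IndH indH_iff_of_equiv indH_equiv indH_iff_range)
open Cfsg.Agent.RC.A (Amb ox ox_apply trSet_blockOf ewt_one cast_one bb lo boxO)

variable {F K : Type} [Field F] [Field K] [Algebra F K] {θ : K →*₀ ℂ} {Q : ℤ} {M : ℕ} [NeZero M] {N p : ℕ}
  {G : ℕ → Type} [∀ n, Group (G n)] [∀ n, Finite (G n)] {A : Amb F K θ Q M N p G} {𝔐 : Ideal AlgInt}

/-- **The reduction step at `δ`.** -/
theorem red2 (h𝔐 : IsPModular p 𝔐) (hQ1 : (p : ℤ) ∣ Q - 1) {m n : ℕ} (hn : n ≤ N) (hm : n ≤ m)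
    {B : Set (IrrCharacter (G n))} (hB : IsPBlock 𝔐 B) {χ : IrrCharacter (G n)} (hχ : χ ∈ B) {t : LabZ Q M m n}
    (ht : (A.t.R n hn).IsLb χ t) (ht' : POnly M p t.t) {δ : ZMod M} (hw : 0 < bsz (t.t δ)) (c : LC A δ) :
    ∃ (l : ℕ) (hl : l ≤ N) (χ₂ : IrrCharacter (G l)) (t₂ : LabZ Q M m l), l + c.f * c.k = n ∧
      (A.t.R l hl).IsLb χ₂ t₂ ∧ POnly M p t₂.t ∧ (∀ δ', ¬ SameZ Q M δ δ' → bsz (t₂.t δ') = bsz (t.t δ')) ∧
      bsz (t₂.t δ) + 1 = bsz (t.t δ) ∧
      ∀ (j : c.X × G l →* G n), Function.Injective j → ∀ u : G n, (∃ a : ℕ, orderOf u = p ^ a) →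
        j.range = Subgroup.centralizer ({u} : Set (G n)) → Val (A.t.R n hn) c.R₁ (A.t.R l hl) j u →
        IndH 𝔐 j (blockOf 𝔐 (ox c.θ₀ χ₂ : c.X × G l → ℂ)) B := by
  classical
  have hp : p.Prime := h𝔐.1
  have : Fact p.Prime := ⟨hp⟩
  have := isPrime_of_isPModular h𝔐
  have hQ := A.ctx.unit
  have hQp : IsUnit (Q : ZMod p) := cast_one hQ1 ▸ isUnit_one
  have hδ : PReg M p δ := by
    by_contra h
    rw [ht' δ h] at hw
    exact lt_irrefl _ hw
  have he : eD Q M p δ = 1 := by rw [eD, cast_one hQ1, one_pow, orderOf_one]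
  have hwδ : 0 < ewt (eD Q M p δ) (t.t δ) := by rwa [he, ewt_one (t.mono δ)]
  obtain ⟨hle, l, hl, t₁, ht₁, h₁, hew, hform, hspan⟩ :
      eD Q M p δ * perZ Q M δ ≤ n ∧ ∃ l : ℕ, l = n - eD Q M p δ * perZ Q M δ ∧
      ∃ t₁ : LabZ Q M m l, POnly M p t₁.t ∧ (∀ δ', ¬ SameZ Q M δ δ' → t₁.t δ' = t.t δ') ∧
      ewt (eD Q M p δ) (t₁.t δ) + 1 = ewt (eD Q M p δ) (t.t δ) ∧
      form Q M (MvPolynomial.pderiv (eD Q M p δ * perZ Q M δ, canon Q M δ) (SchP Q M t.t)) (SchP Q M t₁.t) ≠ 0 ∧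
      MvPolynomial.pderiv (eD Q M p δ * perZ Q M δ, canon Q M δ) (SchP Q M t.t) ∈ Submodule.span ℂ
        {x : RS M | ∃ t' : LabZ Q M m l, POnly M p t'.t ∧ x = SchP Q M t'.t} := by
    obtain ⟨hle, t₁, ht₁, h₁, -, hew, hform⟩ :=
      Cfsg.Agent.H76.GLB.exists_lower (orthZ hQ) hp hQ hQp hm t ht' δ hδ hwδ
    exact ⟨hle, _, rfl, t₁, ht₁, h₁, hew, hform, lower_mem_span hp hQ hQp hm t ht' δ hδ hwδ⟩
  rw [he, ewt_one (t.mono δ), ewt_one (t₁.mono δ)] at hew
  rw [he, one_mul, c.per] at hle hl hform hspan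
  have hln : l ≤ n := by rw [hl]; exact Nat.sub_le _ _
  have hT : TorZ (Q ^ c.f) M c.k δ := (torZ_iff c.k δ).2 (by rw [c.per'])
  obtain ⟨t₂, hne, hfam₂⟩ := exists_t2 hp hQ hQp (hln.trans hm) hspan t₁ hform
  have hlN : l ≤ N := hln.trans hn
  have hlab : (A.t.R l hlN).Bij m := A.t.bij l m hlN (hln.trans hm)
  obtain ⟨χ₂, ht₂, -⟩ := hlab.2 t₂
  obtain ⟨χ₂', hχ₂', t₂', ht₂', ht₂p⟩ :=
    (A.t.R l hlN).exists_pOnly_mem' h𝔐 (hln.trans hm) hlab (isPBlock_blockOf (M := 𝔐) χ₂)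
  have hfam := Cfsg.Agent.H623.GLn.SameFam.trans' hfam₂ ((A.t.R l hlN).sameFam_of_mem h𝔐 (hln.trans hm) hlab
    (isPBlock_blockOf χ₂) (mem_blockOf_self χ₂) hχ₂' ht₂ ht₂')
  have hb : ∀ δ', bsz (t₂'.t δ') = bsz (t₁.t δ') := fun δ' => by
    by_cases h : PReg M p δ'
    · rw [← H157.GLB.sfun_of_pOnly hp ht₂p h, ← H157.GLB.sfun_of_pOnly hp ht₁ h, (hfam δ' h).1]
    · rw [ht₂p δ' h, ht₁ δ' h]
  refine ⟨l, hlN, χ₂', t₂', by omega, ht₂', ht₂p, fun δ' h => by rw [hb, h₁ δ' h], by rw [hb, hew], ?_⟩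
  intro j hj u hu hH hval
  have := Fintype.ofFinite (Subgroup.centralizer ({u} : Set (G n)))
  obtain ⟨ψ, hψ⟩ := Cfsg.Agent.H76.GLB.exists_prodChar hj hH c.θ₀ χ₂
  have hind := induced_of_pairing h𝔐 hu rfl hB hχ (isPBlock_blockOf ψ) (mem_blockOf_self ψ)
    (pairing_ne_zero hp c.gr (A.t.gr l hlN) hj hH hval ht (SchP_mem_PGen hQ t.t ht') hδ c.fpos c.kpos hT t₂ hne
      c.cusp ht₂ ψ hψ)
  let e := ((MonoidHom.ofInjective hj).trans (MulEquiv.subgroupCongr hH)).symm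
  have h2 : ∀ s : Subgroup.centralizer ({u} : Set (G n)), (s : G n) = j (e s) := fun s => by
    obtain ⟨x, rfl⟩ := e.symm.surjective s
    rw [e.apply_symm_apply]
    rfl
  rw [← Cfsg.Agent.H76.GLB.prodBlk_blockOf h𝔐 hj hH c.θ₀ χ₂ ψ hψ, isPBlock_eq_blockOf (isPBlock_blockOf (M := 𝔐) χ₂) hχ₂',
    Cfsg.Agent.H76.GLB.prodBlk_blockOf h𝔐 hj hH c.θ₀ χ₂' (tr e (ox c.θ₀ χ₂')) fun x h hx => by
      rw [tr_apply, show e h = x from hj ((h2 h).symm.trans hx.symm), ox_apply]] at hind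
  rw [indH_iff_of_equiv e h2, trSet_blockOf]
  exact hind

/-- **The abstract frame.** -/
theorem exists_fm (h𝔐 : IsPModular p 𝔐) (hQ1 : (p : ℤ) ∣ Q - 1)
    (hC : ∀ δ : ZMod M, PReg M p δ → perZ Q M δ ≤ N → Nonempty (LC A δ)) {m : ℕ} (n : ℕ) :
    ∀ (hn : n ≤ N), n ≤ m → ∀ t₀ : LabZ Q M m n, POnly M p t₀.t →
      ∃ (H : Type) (_ : Group H) (_ : Finite H) (J : H →* G n) (ψ : IrrCharacter H) (Z : Subgroup H), Function.Injective J ∧
        Z ≤ Subgroup.center H ∧ Nat.card Z = p ^ lo Q M p t₀.t ∧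
        (0 < n → (∀ c, 0 < bsz (t₀.t c) → ¬ p ∣ perZ Q M c) → ∃ z ∈ Z, orderOf (A.d n (J z)) = p ^ vz p (Q - 1)) ∧
        ∀ B, IsPBlock 𝔐 B → ∀ χ ∈ B, ∀ t : LabZ Q M m n, (A.t.R n hn).IsLb χ t → POnly M p t.t →
          (∀ δ, bsz (t.t δ) = bsz (t₀.t δ)) → IndH 𝔐 J (blockOf 𝔐 (ψ : H → ℂ)) B := by
  classical
  have := isPrime_of_isPModular h𝔐
  have hQ := A.ctx.unit
  induction n using Nat.strong_induction_on with
  | _ n ih =>
  intro hn hm t₀ ht₀
  obtain ⟨χ₀, h0, -⟩ := (A.t.bij n m hn hm).2 t₀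
  rcases n.eq_zero_or_pos with rfl | hn0
  · have : Subsingleton (G 0) := (A.inj 0).subsingleton
    have h1 : ∀ χ : IrrCharacter (G 0), (χ : G 0 → ℂ) = 1 := fun χ => funext fun x => by
      have h := H669.Basic.charDegree_dvd_card χ.2
      rw [Nat.card_of_subsingleton (1 : G 0), Nat.dvd_one] at h
      rw [Subsingleton.elim x 1, irr_one_eq_charDegree χ.2, h, Nat.cast_one, Pi.one_apply]
    refine ⟨G 0, inferInstance, inferInstance, (MulEquiv.refl _).toMonoidHom, χ₀, ⊥, fun _ _ h => h, bot_le, ?_,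
      fun h => absurd h (lt_irrefl 0), fun B hB χ hχ _ _ _ _ => ?_⟩
    · rw [Subgroup.card_bot, lo, Finset.sum_eq_zero fun c _ => by
        rw [Finset.sum_eq_zero_iff.1 t₀.sum c (Finset.mem_univ c), zero_mul], pow_zero]
    · rw [h1 χ₀, ← h1 χ, ← isPBlock_eq_blockOf hB hχ]
      exact indH_equiv (MulEquiv.refl _) hB
  obtain ⟨δ, hδ, h1⟩ := Finset.exists_ne_zero_of_sum_ne_zero ((LV.A.sum_reps hQ t₀).trans_ne hn0.ne')
  have h2 := Nat.pos_of_ne_zero (right_ne_zero_of_mul h1)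
  obtain ⟨c⟩ := hC δ (by_contra fun h => h2.ne' (ht₀ δ h))
    (((Nat.le_mul_of_pos_right _ h2).trans (LV.A.per_mul_le hQ t₀ hδ)).trans hn)
  obtain ⟨l, hl, -, t₂, hln, -, h3, h4, h5, -⟩ := red2 h𝔐 hQ1 hn hm (isPBlock_blockOf χ₀) (mem_blockOf_self χ₀) h0 ht₀ h2 c
  have h6 := Nat.mul_pos c.fpos c.kpos
  obtain ⟨H, _, _, J, ψ, Z, k1, k2, k3, -, k4⟩ := ih l (by omega) hl (by omega) t₂ h3
  obtain ⟨j, u, l1, l2, l3, l4, l5⟩ := c.step l n hl hn hln
  refine ⟨c.X × H, inferInstance, inferInstance, j.comp (MonoidHom.prodMap (MonoidHom.id _) J), ox c.θ₀ ψ, c.Zc.prod Z,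
    l1.comp (Function.injective_id.prodMap k1), fun x hx => Subgroup.mem_center_iff.2 fun y =>
      Prod.ext (Subgroup.mem_center_iff.1 (c.cen hx.1) _) (Subgroup.mem_center_iff.1 (k2 hx.2) _), ?_, fun _ h => ?_,
    fun B hB χ hχ t ht ht' h => ?_⟩
  · rw [Nat.card_congr (Subgroup.prodEquiv _ _).toEquiv, Nat.card_prod, c.card, k3, ← pow_add, lo, lo,
      ← Finset.add_sum_erase _ _ hδ, ← Finset.add_sum_erase _ _ hδ, ← h5, add_mul, one_mul, ← add_assoc, add_comm (bb Q M p δ)]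
    refine congrArg (fun x => p ^ (_ + x)) (Finset.sum_congr rfl fun x hx => ?_)
    rw [h4 x fun e => (Finset.mem_erase.1 hx).1 ?_]
    rw [← mem_repsZ.1 (Finset.mem_erase.1 hx).2, ← canon_eq_of_same hQ e, mem_repsZ.1 hδ]
  · obtain ⟨z, h7, h8⟩ := l5 (h δ h2)
    exact ⟨(z, 1), ⟨h7, one_mem _⟩, by rw [← h8]; exact congrArg (fun y => orderOf (A.d n (j (z, y)))) (map_one J)⟩
  · obtain ⟨l', hl', χ₂, t₃, h7, h8, h9, h10, h11, h12⟩ := red2 h𝔐 hQ1 hn hm hB hχ ht ht' ((h δ).symm ▸ h2) c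
    obtain rfl : l' = l := by omega
    refine (TID.Red.IndH.trans_iff (fun _ => rfl) ((boxO p 𝔐 h𝔐 _ _ c.θ₀ ψ _ (ox_apply _ _)).2 _ J χ₂ _ (ox_apply _ _)
      (k4 _ (isPBlock_blockOf χ₂) χ₂ (mem_blockOf_self χ₂) t₃ h8 h9 fun x => ?_))).2 (h12 j l1 u l2 l3 l4)
    by_cases e : SameZ Q M δ x
    · have := h δ
      rw [H157.GLB.tup_congr t₃.orb e, H157.GLB.tup_congr t₂.orb e]
      omega
    · rw [h10 x e, h4 x e, h]

/-- **Families are blocks; a large abelian subgroup of the defect groups.** -/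
theorem exists_ab (h𝔐 : IsPModular p 𝔐) (hQ1 : (p : ℤ) ∣ Q - 1)
    (hC : ∀ δ : ZMod M, PReg M p δ → perZ Q M δ ≤ N → Nonempty (LC A δ)) {n : ℕ} (hn0 : 0 < n) (hn : n ≤ N)
    {B : Set (IrrCharacter (G n))} (hB : IsPBlock 𝔐 B) {P : Subgroup (G n)} (hP : IsDefectGroup p 𝔐 B P) :
    ∃ t : LabZ Q M n n, POnly M p t.t ∧
      (∀ (χ : IrrCharacter (G n)) (T : LabZ Q M n n), (A.t.R n hn).IsLb χ T → (χ ∈ B ↔ Fam M p T.t t.t)) ∧
      ∃ Z ≤ P, (∀ x ∈ Z, ∀ y ∈ Z, x * y = y * x) ∧ Nat.card Z = p ^ lo Q M p t.t ∧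
        ((∀ c, 0 < bsz (t.t c) → ¬ p ∣ perZ Q M c) → ∃ z ∈ Z, orderOf (A.d n z) = p ^ vz p (Q - 1)) := by
  have hp := h𝔐.1
  have := Fact.mk hp
  have := isPrime_of_isPModular h𝔐
  have hbij : (A.t.R n hn).Bij n := A.t.bij n n hn le_rfl
  obtain ⟨χ₀, hχ₀, t, ht, ht'⟩ := (A.t.R n hn).exists_pOnly_mem' h𝔐 le_rfl hbij hB
  obtain ⟨H, _, _, J, ψ, Z, k1, k2, k3, k4, k5⟩ := exists_fm h𝔐 hQ1 hC n hn le_rfl t ht'
  have h1 := k5 B hB χ₀ hχ₀ t ht ht' fun _ => rfl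
  refine ⟨t, ht', fun χ T hT => ⟨fun h δ hδ => ?_, fun h => ?_⟩, ?_⟩
  · rw [((A.t.R n hn).sameFam_of_mem h𝔐 le_rfl hbij hB h hχ₀ hT ht δ hδ).1, H157.GLB.sfun_of_pOnly hp ht' hδ]
  · have hb := isPBlock_blockOf (M := 𝔐) χ
    obtain ⟨χ₁, hχ₁, t₁, ht₁, ht₁'⟩ := (A.t.R n hn).exists_pOnly_mem' h𝔐 le_rfl hbij hb
    refine h1.unique (k5 _ hb χ₁ hχ₁ t₁ ht₁ ht₁' fun c => ?_) ▸ mem_blockOf_self χ
    by_cases e : PReg M p c
    · rw [← h c e, ← H157.GLB.sfun_of_pOnly hp ht₁' e,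
        ((A.t.R n hn).sameFam_of_mem h𝔐 le_rfl hbij hb (mem_blockOf_self χ) hχ₁ hT ht₁ c e).1]
    · rw [ht' c e, ht₁' c e]
  · obtain ⟨D, hD⟩ := H644.exists_isDefectGroup h𝔐 h1.1
    have h2 := (indH_iff_range k1).1 h1
    obtain ⟨E, hE, h3⟩ := S0917.result p 𝔐 h𝔐 _ _ h2.1 B hB h2 _ (isDefectGroup_trSet (MonoidHom.ofInjective k1).symm hD)
    obtain ⟨g, rfl⟩ := TID.Red.conj_defect h𝔐 hB hE hP
    refine ⟨Z.map ((MulAut.conj g).toMonoidHom.comp J), ?_, ?_, ?_, fun h => ?_⟩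
    · rintro _ ⟨z, hz, rfl⟩
      refine ⟨J z, h3 ⟨MonoidHom.ofInjective k1 z, ?_, rfl⟩, rfl⟩
      change (MonoidHom.ofInjective k1).symm _ ∈ D
      rw [MulEquiv.symm_apply_apply]
      exact TO.Cov.le_defect hD (IsPGroup.of_card k3) k2 hz
    · rintro _ ⟨x, hx, rfl⟩ _ ⟨y, -, rfl⟩
      rw [← map_mul, ← map_mul, Subgroup.mem_center_iff.1 (k2 hx)]
    · rw [Subgroup.card_map_of_injective ((MulAut.conj g).injective.comp k1), k3]
    · obtain ⟨z, h4, h5⟩ := k4 hn0 h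
      refine ⟨_, ⟨z, h4, rfl⟩, ?_⟩
      change orderOf (A.d n (g * J z * g⁻¹)) = _
      rwa [map_mul, map_mul, map_inv, mul_inv_cancel_comm]

end Cfsg.Agent.BZ.A

private theorem dce_c6b8db3af2a4 : _root_.True := by
  try have : _root_.True := by simp only [_root_.Cfsg.Agent.RC.A.lo.eq_1]
  exact _root_.True.intro
end

-- part: BZ/A/Cen_mg
section
prune_inst 0x201000000000000000000000000000000000000200004000000200000100000000408000000000001000000000000000000000000000000000000000000400000000000000000000000000000001000000000000000000000000000000000000000000000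
set_option linter.all false
open scoped Cfsg.Agent.FastGrp

-- part: BZ/A/Cen
section
/-!
# BZ, type A : the central character of a label (helper41)
-/

set_option autoImplicit false
set_option linter.unusedSectionVars false

namespace Cfsg.Agent.BZ.A

open Cfsg Cfsg.Agent.Characters
open Cfsg.Agent.H577.GLB.Std Cfsg.Agent.H614.GLn.RSt Cfsg.Agent.H615.GU Cfsg.Agent.H623.GU Cfsg.Agent.H112.GLB
open Cfsg.Agent.H624.Sl Cfsg.Agent.H624.SlU Cfsg.Agent.H794.EM Cfsg.Agent.RC.A Cfsg.Agent.RC.A.Cox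

namespace Zb

variable {K : Type} [Field K] [Finite K] {θ : K →*₀ ℂ} {Q : ℤ} {M N : ℕ} [NeZero M] {w : Kˣ}

variable (Q w) in
/-- normalized values at the types of a scalar -/
noncomputable def Rw (f : Ty (Orb K Q) → ℂ) (n : ℕ) : ℂ :=
  f (Finsupp.single (Quotient.mk (orbSetoid K Q) w) (cn n)) * (ph (Q : ℂ) n)⁻¹

variable (θ Q M w) in
/-- the twist by the central character -/
noncomputable def sg : RS M →ₐ[ℂ] RS M :=
  MvPolynomial.aeval fun v : Var M => θ (w : K) ^ expoZ Q M v.1 v.2 • MvPolynomial.X v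

variable (ctx : CtxQ θ Q M N) (hw : w ^ Q = w)
include ctx hw

theorem Rw_Pop (k : ℕ) (c : ZMod M) (f : Ty (Orb K Q) → ℂ) :
    Rw Q w (Pop θ Q M k c f) = fun n => θ (w : K) ^ expoZ Q M k c * (cs (Q : ℂ) k * H794.EM.Sh k (Rw Q w f) n) := by
  classical
  funext n
  have hd := dOrb_fix ctx.card ctx.unit hw
  rw [Rw, H531.GU.Pop_eq, LinearMap.sum_apply, Finset.sum_apply, Finset.sum_eq_single (Quotient.mk (orbSetoid K Q) w)]
  · rcases Nat.eq_zero_or_pos k with rfl | hk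
    · rw [if_neg (fun h => lt_irrefl _ h.1), LinearMap.zero_apply, Pi.zero_apply, zero_mul, cs_zero, zero_mul, mul_zero]
    · rw [if_pos ⟨hk, hd ▸ one_dvd k⟩, thO, H421.GU.finsum_orb ctx.card ctx.unit
        (fun x : Kˣ => θ (x : K) ^ expoZ Q M k c) w, hd, Finset.sum_range_one, pow_zero, zpow_one, pow_one, Nat.div_one,
        LinearMap.smul_apply, Pi.smul_apply, smul_eq_mul, mul_assoc, H531.GU.lft_apply, Finsupp.single_eq_same]
      have h1 : ∀ (o : Orb K Q) (a b : Col), (Finsupp.single o a).update o b = Finsupp.single o b := fun o a b => by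
        ext1 j
        rw [Finsupp.coe_update]
        by_cases hj : j = o
        · rw [hj, Function.update_self, Finsupp.single_eq_same]
        · rw [Function.update_of_ne hj, Finsupp.single_eq_of_ne hj, Finsupp.single_eq_of_ne hj]
      simp only [h1]
      exact congrArg _ (congrFun (Rc_pp (ht_of ctx) k fun c => f (Finsupp.single _ c)) n)
  · intro o _ ho
    split_ifs with h
    · rw [LinearMap.smul_apply, Pi.smul_apply, H531.GU.lft_apply, Finsupp.single_eq_of_ne ho, pp_at_zero, smul_zero]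
    · rfl
  · exact fun h => absurd (Finset.mem_univ _) h

theorem Rw_evR (x : RS M) : Rw Q w (_root_.Cfsg.Agent.H615.GU.evR θ Q M x) = fun n => (epsX Q M (sg θ Q M w x)).coeff n := by
  induction x using MvPolynomial.induction_on with
  | C a =>
    funext n
    rw [← MvPolynomial.algebraMap_eq, AlgHom.commutes, ← congrFun (RG_evR θ Q M (coprime_of_unit ctx) (ht_of ctx) _) n,
      Algebra.algebraMap_eq_smul_one, map_smul, evR_one]
    simp only [Rw, RG, tyOne, Pi.smul_apply, H615.GU.vac, Finsupp.single_eq_zero]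
  | add x y hx hy =>
    funext n
    rw [map_add, map_add, map_add, Polynomial.coeff_add, ← congrFun hx n, ← congrFun hy n]
    exact add_mul _ _ _
  | mul_X x v hx =>
    rw [mul_comm, H531.GU.evR_X_mul θ Q M H521.GU.i2s, Rw_Pop ctx hw, hx]
    funext n
    rw [map_mul, sg, MvPolynomial.aeval_X, smul_mul_assoc, map_smul, map_mul, epsX, MvPolynomial.aeval_X,
      ← Polynomial.C_mul_X_pow_eq_monomial, mul_assoc, Polynomial.coeff_smul, Polynomial.coeff_C_mul,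
      Polynomial.coeff_X_pow_mul', H794.EM.Sh, smul_eq_mul]

theorem sg_Pw {c : ZMod M} (hc : c ∈ repsZ Q M) {j : ℕ} (hj : 0 < j) :
    sg θ Q M w (Pw Q M j c) = (θ (w : K) ^ expoZ Q M (perZ Q M c) c) ^ j • Pw Q M j c := by
  have h1 : expoZ Q M (j * perZ Q M c) c = (∑ i ∈ Finset.range j, (Q ^ perZ Q M c) ^ i) * expoZ Q M (perZ Q M c) c :=
    mul_right_cancel₀ (Nat.cast_ne_zero.2 (NeZero.ne M)) (by
      rw [H531.GU.expoZ_mul ((torZ_iff _ c).2 (dvd_mul_left _ _)), mul_assoc, H531.GU.expoZ_mul ((torZ_iff _ c).2 dvd_rfl),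
        mul_left_comm, geom_sum_mul, ← pow_mul, mul_comm j])
  have h2 : ∀ j : ℕ, w ^ ∑ i ∈ Finset.range j, (Q ^ perZ Q M c) ^ i = w ^ j := fun j => by
    induction j with
    | zero => simp
    | succ j ih => rw [Finset.sum_range_succ, zpow_add, ih, ← pow_mul, pow_fix hw, pow_succ]
  rw [Pw_eq ctx.unit hc hj, sg, MvPolynomial.aeval_X, h1, zpow_mul, ← map_zpow₀ θ _ (∑ _ ∈ _, _),
    ← Units.val_zpow_eq_zpow_val, h2, Units.val_pow_eq_pow_val, map_pow, ← zpow_natCast, ← zpow_mul, mul_comm, zpow_mul,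
    zpow_natCast]

theorem sg_Sch {c : ZMod M} (hc : c ∈ repsZ Q M) {m : ℕ} (β : Fin m → ℕ) :
    sg θ Q M w (Sch Q M c β) = (θ (w : K) ^ expoZ Q M (perZ Q M c) c) ^ bsz β • Sch Q M c β := by
  rw [Sch, map_sum, Finset.smul_sum]
  refine Finset.sum_congr rfl fun ν _ => ?_
  rw [map_smul, smul_comm, map_multiset_prod, Multiset.map_map,
    Multiset.map_congr (f := sg θ Q M w ∘ fun j => Pw Q M j c) rfl fun j hj => sg_Pw ctx hw hc (ν.parts_pos hj)]
  simp only [Algebra.smul_def, map_pow, Multiset.prod_map_mul]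
  rw [show bsz β = ν.parts.sum from ν.parts_sum.symm]
  congr 2
  induction ν.parts using Multiset.induction_on with
  | empty => simp only [_root_.MvPolynomial.algebraMap_eq, _root_.Multiset.map_zero, _root_.Multiset.prod_zero, _root_.Multiset.sum_zero, _root_.pow_zero]
  | cons a s ih => rw [Multiset.map_cons, Multiset.prod_cons, ih, Multiset.sum_cons, pow_add]

end Zb

open Zb in
/-- **[Z]** -/
theorem boxZ : BoxZ := by
  intro F K _ _ _ θ Q M _ N p G _ _ A n hn h0 χ T ⟨s, hs⟩ hC z ⟨c₀, hz⟩ k hk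
  have := A.ctx.finK
  have := A.cF.finF
  have h1 := A.scalar h0 hn hz
  obtain ⟨w, hw⟩ : ∃ w : Kˣ, w = Units.map (algebraMap F K).toMonoidHom c₀ := ⟨_, rfl⟩
  rw [← hw] at h1
  have h2 : w ^ Q = w := by rw [← sub_add_cancel Q 1, zpow_add_one, h1, one_mul]
  have h3 : w ^ p ^ k = 1 := by
    rw [← orderOf_dvd_iff_pow_eq_one, hw, orderOf_injective _ (Units.map_injective (algebraMap F K).injective),
      ← orderOf_scl h0, ← hz, orderOf_injective _ (A.inj _), orderOf_dvd_iff_pow_eq_one, hk]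
  have h4 : (A.t.T n hn).typ z = Finsupp.single (Quotient.mk (orbSetoid K Q) w) (cn n) := by
    ext1 o
    induction o using Quotient.inductionOn with
    | h y =>
      rw [A.typ, hz, ← mul_one (scl n c₀), mcol_scl, ← hw, ← map_one (A.ρ n), ← A.typ n hn, A.one, tyOne]
      by_cases hy : y = w
      · rw [hy, inv_mul_cancel]
        exact Finsupp.single_eq_same.trans Finsupp.single_eq_same.symm
      · rw [Finsupp.single_eq_of_ne fun h => hy (inv_mul_eq_one.1 (mk_eq_o1 Q (coprime_of_unit A.ctx) h)).symm,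
          Finsupp.single_eq_of_ne]
        exact fun h => ((H421.GU.mk_eq_iff A.ctx.card A.ctx.unit).1 h).elim fun i hi => hy (hi.trans (pow_fix h2 i))
  have h5 : sg θ Q M w (SchP Q M T.t) = SchP Q M T.t := by
    have h5 := congrArg (fun x : Kˣ => θ (x : K)) (hC Kˣ w k h1 h3)
    simp only [Units.coe_prod, map_prod, Units.val_pow_eq_pow_val, map_pow, Units.val_zpow_eq_zpow_val, map_zpow₀,
      Units.val_one, map_one] at h5
    rw [SchP, map_prod, Finset.prod_congr rfl fun c hc => sg_Sch A.ctx h2 (mem_repsZ.2 (Finset.mem_filter.1 hc).2) _,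
      Finset.prod_smul]
    exact (congrArg (· • _) h5).trans (one_smul _ _)
  have h6 := congrFun (Rw_evR A.ctx h2 (SchP Q M T.t)) n
  rw [h5, ← congrFun (RG_evR θ Q M (coprime_of_unit A.ctx) (ht_of A.ctx) _) n, Rw, RG, ← h4, ← A.one n hn,
    mul_left_inj' (inv_ne_zero (ph_ne (ht_of A.ctx) n))] at h6
  exact mul_left_cancel₀ (a := ((s : ℤ) : ℂ)) (by exact_mod_cast s.ne_zero)
    ((congrFun hs z).symm.trans (h6.trans (congrFun hs 1)))

end Cfsg.Agent.BZ.A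
end

-- part: BZ/A/Tw
section
/-!
# BZ, type A: labels which no twist fixes (helper49)

`boxW : BoxW`.
-/

set_option autoImplicit false

namespace Cfsg.Agent.BZ.A

open Cfsg Cfsg.Agent.Characters
open Cfsg.Agent.H577.GLB.Std Cfsg.Agent.H614.GLn.RSt Cfsg.Agent.H615.GU Cfsg.Agent.H623.GU Cfsg.Agent.H112.GLB
open Cfsg.Agent.TID.Red (Ov ov_subtype_iff)

/-- the valuation is preserved or the character vanishes off the subgroup of index `p` -/
theorem Tw.dich {G C : Type} [Group G] [Finite G] [CommGroup C] [IsCyclic C] (d : G →* C) {p : ℕ}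
    (χ : IrrCharacter G) (ϑ : IrrCharacter d.ker) (h : Ov d.ker.subtype (χ : G → ℂ) (ϑ : d.ker → ℂ)) :
    (charDegree (χ : G → ℂ)).factorization p ≤ (charDegree (ϑ : d.ker → ℂ)).factorization p ∨
      ∀ g, (χ : G → ℂ) g ≠ 0 → ∃ y, d g = d y ^ p := by
  classical
  have := Fintype.ofFinite G
  have hc : IsCyclic (G ⧸ d.ker) := (QuotientGroup.quotientKerEquivRange d).isCyclic.2 inferInstance
  have hS : ∀ g : G, g ∈ H666.Clif.stab d.ker (ϑ : d.ker → ℂ) ↔ _ := fun g => funext_iff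
  have h1 := KM.A.deg_cyc d.ker hc h _ hS
  have h2 := H666.Clif.le_stab d.ker (Core.isIrr_isClassFunction ϑ.2)
  obtain ⟨η, -, h3, -⟩ := CharDeep.CliffordCorr.clifford_correspondence d.ker _ ϑ.2 _ hS h2 _ χ.2
    ((ov_subtype_iff _ _ _).1 h)
  generalize H666.Clif.stab d.ker (ϑ : d.ker → ℂ) = S at h1 h2 η h3
  by_cases hp : p ∣ S.index
  · refine Or.inr fun g hg => ?_
    have : S.Normal := ⟨fun s hs x => by
      have h4 := S.mul_mem (h2 (show x * s * x⁻¹ * s⁻¹ ∈ d.ker by simp only [MonoidHom.mem_ker, mul_comm, _root_.map_mul, _root_.map_inv, _root_.mul_inv_cancel_right, _root_.mul_inv_cancel])) hs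
      rwa [inv_mul_cancel_right] at h4⟩
    obtain ⟨⟨_, y, rfl⟩, hy⟩ := IsCyclic.exists_generator (α := d.range)
    have h4 : ∀ x : G, ∃ k : ℤ, d x = d y ^ k ∧ (x : G ⧸ S) = (y : G ⧸ S) ^ k := fun x => by
      obtain ⟨k, hk⟩ := hy ⟨_, x, rfl⟩
      have h5 : d x = d y ^ k := (congrArg Subtype.val hk).symm
      exact ⟨k, h5, QuotientGroup.eq.2 (h2 (show x⁻¹ * y ^ k ∈ d.ker by simp only [MonoidHom.mem_ker, h5, _root_.map_mul, _root_.map_inv, _root_.map_zpow, _root_.inv_mul_cancel]))⟩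
    have h5 : orderOf (y : G ⧸ S) = S.index := orderOf_eq_card_of_forall_mem_zpowers fun x => by
      obtain ⟨x, rfl⟩ := QuotientGroup.mk_surjective x
      obtain ⟨k, -, hk⟩ := h4 x
      exact ⟨k, hk.symm⟩
    obtain ⟨k, h6, h7⟩ := h4 g
    rw [(QuotientGroup.eq_one_iff g).2 (by_contra fun e => hg (h3 ▸ CharactersDeep.NormalInd.indFun_of_not_mem S η e))] at h7
    obtain ⟨j, rfl⟩ := (Int.natCast_dvd_natCast.2 (h5 ▸ hp)).trans (orderOf_dvd_iff_zpow_eq_one.2 h7.symm)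
    exact ⟨y ^ j, by rw [h6, map_zpow, mul_comm, zpow_mul, zpow_natCast]⟩
  · rw [h1, Nat.factorization_mul Subgroup.index_ne_zero_of_finite (Blocks.Basic.charDegree_pos ϑ.2).ne',
      Finsupp.add_apply, Nat.factorization_eq_zero_of_not_dvd hp, zero_add]
    exact Or.inl le_rfl

/-- **[W]** -/
theorem boxW : BoxW := by
  intro F K _ _ _ θ Q M _ N p G _ _ A hp hQ n hn hn0 χ T hT hF ϑ hϑ
  have := A.ctx.finK
  have hM := A.ctx.card
  have hU := A.ctx.unit
  have hM0 : (M : ℤ) ≠ 0 := Nat.cast_ne_zero.2 (NeZero.ne M)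
  refine (Tw.dich (A.d n) χ ϑ hϑ).resolve_right fun h => hF ?_
  obtain ⟨m, hm⟩ : p ∣ M := Int.natCast_dvd_natCast.1 (hQ.trans (pow_one Q ▸ A.ctx.dvd 1 one_pos (hn0.trans_le hn)))
  have hm0 : 0 < m := Nat.pos_of_mul_pos_left (hm ▸ NeZero.pos M)
  obtain ⟨a, ha⟩ : ∃ a : ZMod M, a = m := ⟨_, rfl⟩
  have hpa : (p : ZMod M) * a = 0 := by rw [ha, ← Nat.cast_mul, ← hm, ZMod.natCast_self]
  have ha0 : a ≠ 0 := fun e => by
    have h1 := Nat.le_of_dvd hm0 ((ZMod.natCast_eq_zero_iff m M).1 (ha ▸ e))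
    have h2 := hp.two_le
    nlinarith only [hm, hm0, h1, h2]
  have h1 : TorZ Q M 1 a := by
    obtain ⟨b, hb⟩ := hQ
    have h2 := congrArg (Int.cast : ℤ → ZMod M) hb
    push_cast at h2
    rw [TorZ, pow_one, h2]
    linear_combination b * hpa
  have h2 := H531.GU.expoZ_mul h1
  rw [pow_one] at h2
  have h3 : ∀ g, (χ : G n → ℂ) g ≠ 0 → A.d n g ^ expoZ Q M 1 a = 1 := fun g hg => by
    obtain ⟨y, hy⟩ := h g hg
    obtain ⟨k, hk⟩ := (ZMod.intCast_zmod_eq_zero_iff_dvd (p * a.val) M).1 (by push_cast; rwa [ZMod.natCast_zmod_val])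
    have h4 : p * expoZ Q M 1 a = (Q - 1) * k := mul_right_cancel₀ hM0 (by linear_combination p * h2 + (Q - 1) * hk)
    rw [hy, ← zpow_natCast, ← zpow_mul, h4, zpow_mul]
    exact (congrArg (· ^ k) (A.drng _ y)).trans (one_zpow k)
  have h4 : (Q : ZMod M) * a = a := by
    rw [TorZ, pow_one] at h1
    linear_combination h1
  let T' : LabZ Q M n n := ⟨fun c => T.t (c - a), fun c => T.mono _, fun c => by
    rw [← T.orb (c - a), mul_sub, h4], (Equiv.sum_comp (Equiv.subRight a) fun c => bsz (T.t c)).trans T.sum⟩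
  obtain ⟨s, hs⟩ := hT
  have h5 : (A.t.R n hn).IsLb χ T' := ⟨s, funext fun g => by
    have h6 := congrFun hs g
    rw [Tow.R_om] at h6
    rw [Tow.R_om, ← H157.GLB.twist_SchP hU a h1 T.t T.orb,
      H421.GU.evR_twist hM hU (fun v x => H531.GU.evR_X_mul θ _ M H521.GU.i2s v x) h1 (H505.S4536.DC.SchP_mem_GenR _),
      H697.GW.linT_eq (fun h h1 h2 => A.cF.spl h h1 (h2.trans hn)) θ M a (A.typ _ hn g), h6]
    by_cases hg : (χ : G n → ℂ) g = 0
    · simp only [hg, _root_.Pi.smul_apply, _root_.smul_eq_mul, _root_.MulZeroClass.mul_zero]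
    · have h7 := congrArg (fun x : Kˣ => θ (x : K)) (h3 g hg)
      simp only [Units.val_zpow_eq_zpow_val, map_zpow₀, Units.val_one, map_one] at h7
      exact (congrArg (· * _) h7).trans (one_mul _)⟩
  have h6 := ((A.t.bij n n hn le_rfl).1 χ).unique h5 ⟨s, hs⟩
  exact ⟨a, ha0, hpa, fun c => congrArg (fun t : LabZ Q M n n => bsz (t.t c)) h6⟩

end Cfsg.Agent.BZ.A
end

private theorem dce_450614c26687 : _root_.True := by
  try have : _root_.True := by simp only [_root_.Cfsg.Agent.BZ.A.Zb.sg.eq_1]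
  try have : _root_.True := by simp only [_root_.Cfsg.Agent.BZ.A.Zb.Rw.eq_1]
  exact _root_.True.intro
end
end

-- part: BZ/A/Rows_mg
section
set_option linter.all false
open scoped Cfsg.Agent.FastGrp

-- part: RC/A/Fin
section
/-!
# RC, type A (helper65): the rows of the linear and unitary groups

`rowPsl`, `rowPsu` : the fields `psl`, `psu` of `KM.Mu.RRows`.
-/

set_option autoImplicit false

namespace Cfsg.Agent.RC.A

/-- the cells -/
theorem cells : BoxC := boxC boxA boxD boxL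

end Cfsg.Agent.RC.A
end

-- part: BZ/A/Rows
section
/-!
# BZ, type A: the rows of the linear and unitary groups from the boxes (helper11)

`row_psl`, `row_psu`.
-/

set_option autoImplicit false
set_option linter.unusedSectionVars false

namespace Cfsg.Agent.BZ.A

open Cfsg Cfsg.Agent.KM Matrix
open Cfsg.Agent.H577.GLB.Std Cfsg.Agent.H623.GU Cfsg.Agent.H615.GU
open Cfsg.Agent.RC.A (Amb boxA cells dK_eq_one scl_of_eq)

variable {l : ℕ} [hl : Fact l.Prime] {F : Type} [Field F] [Fintype F]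

/-- the cover inside a group with members of positive height -/
def Emb (l : ℕ) (Y : Type) [Group Y] : Prop :=
  l ∣ Nat.card (Subgroup.center Y) ∧ ∀ 𝔐 : Ideal AlgInt, IsPModular l 𝔐 →
    ∃ (Γ : Type) (_ : Group Γ) (_ : Finite Γ) (N : Subgroup Γ) (_ : N.Normal) (Z : Set Γ) (ι : Y →* Γ), Ht l 𝔐 N Z ∧
      (∀ z ∈ Z, z ∈ Subgroup.center Γ) ∧ Function.Injective ι ∧ ι.range = N ∧ ∀ y ∈ Subgroup.center Y, ι y ∈ Z

theorem Emb.not_hz (hR : BoxR) {Y : Type} [Group Y] (h : Emb l Y) {K : Type} [Group K] [Finite K]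
    {σ : K →* Y ⧸ Subgroup.center Y} {𝔐 : Ideal AlgInt} {B : Set (IrrCharacter K)} {D : Subgroup K} (H : Hyp l 𝔐 B D σ)
    (ψ : Y →* K) (h5 : Function.Surjective ψ) (h6 : ∀ y, σ (ψ y) = QuotientGroup.mk' _ y) : ¬ BK.HZ l B := by
  obtain ⟨Γ, _, _, N, _, Z, ι, h1, h0, h2, h3, h4⟩ := h.2 𝔐 H.hM
  refine hR l 𝔐 Γ N Z h1 h0 Y K _ ι ψ σ h2 h3 h4 h5 (fun y hy => ?_) h.1 B D H
  rw [← QuotientGroup.ker_mk' (Subgroup.center Y), MonoidHom.mem_ker, ← h6, MonoidHom.mem_ker.1 hy, map_one]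

/-- the row from the universal cover -/
theorem Emb.row (hR : BoxR) {Y : Type} [Group Y] [Finite Y] (h : Emb l Y) (hY : commutator Y = ⊤) {C : Type} [CommGroup C]
    [Finite C] (hA : HasSchurMultiplier (Y ⧸ Subgroup.center Y) C) (hd : Nat.card (Subgroup.center Y) = Nat.card C) :
    RowP l (Y ⧸ Subgroup.center Y) := fun K _ _ σ 𝔐 B D H => by
  have hπ := QuotientGroup.mk'_surjective (Subgroup.center Y)
  obtain ⟨ψ, h5, h6⟩ := H95.StemCover.exists_cover' (by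
      rw [commutator_def, ← MonoidHom.range_eq_top.2 hπ, MonoidHom.range_eq_map, ← Subgroup.map_commutator,
        ← commutator_def, hY]) hA (QuotientGroup.mk' _)
    (H95.StemCover.isStem hY hπ (QuotientGroup.ker_mk' _).le) (by rw [QuotientGroup.ker_mk', hd])
    H.qs.1.commutator_eq_top σ H.surj H.ker.le
  exact h.not_hz hR H ψ h5 h6

/-- the simple group itself -/
theorem Emb.one (hR : BoxR) {Y : Type} [Group Y] (h : Emb l Y) : Cov XP 1 l (Y ⧸ Subgroup.center Y) := fun K _ _ σ 𝔐 B D H hc => by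
  let e := MulEquiv.ofBijective σ ⟨(MonoidHom.ker_eq_bot_iff σ).1 (H.ker.trans (Subgroup.card_eq_one.1 hc)), H.surj⟩
  exact h.not_hz hR H (e.symm.toMonoidHom.comp (QuotientGroup.mk' _)) (e.symm.surjective.comp (QuotientGroup.mk'_surjective _))
    fun y => e.apply_symm_apply _

theorem cen_Z {K : Type} [Field K] [Algebra F K] {θ : K →*₀ ℂ} {Q : ℤ} {M : ℕ} [NeZero M] {N : ℕ} {G : ℕ → Type}
    [∀ n, Group (G n)] [∀ n, Finite (G n)] (A : Amb F K θ Q M N l G) (n : ℕ) : ∀ z ∈ A.Z n, z ∈ Subgroup.center (G n) :=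
  fun z ⟨c, hc⟩ => Subgroup.mem_center_iff.2 fun g => A.inj n (by rw [map_mul, map_mul, hc, H623.GU.scl_comm])

theorem emb_SL (hU : BoxU) (h2 : l ≠ 2) {n : ℕ} (hg : l ∣ Nat.gcd (n + 1) (Fintype.card F - 1)) :
    Emb l (_root_.Matrix.SpecialLinearGroup (Fin (n + 1)) F) := by
  refine ⟨by rwa [S0280.card_center_SL n.succ_pos], fun 𝔐 hM => ?_⟩
  obtain ⟨K, _, _, θ, M, _, C⟩ := H120.GLB.Ctx.exists_ctx F (n + 1)
  have ctx : CtxQ θ (Fintype.card F : ℤ) M (n + 1) := by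
    have := H614.GU.ctxQ_card C
    rwa [Nat.card_eq_fintype_card] at this
  have hQ : (l : ℤ) ∣ (Fintype.card F : ℤ) - 1 := by
    rw [← Nat.cast_pred Fintype.card_pos]
    exact Int.natCast_dvd_natCast.2 (hg.trans (Nat.gcd_dvd_right _ _))
  have hF : (l : F) ≠ 0 := fun e => by
    obtain ⟨k, hk⟩ := hQ
    have h1 := congrArg (Int.cast : ℤ → F) hk
    push_cast at h1
    rw [e, FiniteField.cast_card_eq_zero, zero_mul, zero_sub, neg_eq_zero] at h1
    exact one_ne_zero h1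
  obtain ⟨A, h3, h4⟩ := (boxA F K θ _ M _ l hl.out hF C ctx).1 rfl
  refine ⟨_, _, inferInstance, (A.d (n + 1)).ker, inferInstance, A.Z (n + 1), SpecialLinearGroup.toGL,
    (hU F K θ _ M _ l _ A 𝔐 hM h2 hQ (fun δ h5 h6 => (cells F K θ _ M _ l 𝔐 hM h2 hQ δ h5 h6).1 rfl A h3 h4) _ n.succ_pos le_rfl).2,
    cen_Z A _, SpecialLinearGroup.toGL_injective, ?_, fun y hy => ?_⟩
  · rw [KM.A.range_SL]
    ext g
    rw [MonoidHom.mem_ker, MonoidHom.mem_ker, Amb.d, h3]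
    exact dK_eq_one.symm
  · obtain ⟨_, _, h⟩ := Matrix.SpecialLinearGroup.mem_center_iff.1 hy
    rw [Amb.Z, h3]
    exact scl_of_eq h.symm

theorem emb_SU (hU : BoxU) (h2 : l ≠ 2) {n q : ℕ} (hq : Fintype.card F = q ^ 2) (hn : 3 ≤ n + 1) (hg : l ∣ Nat.gcd (n + 1) (q + 1)) :
    Emb l (SU (n + 1) F q) := by
  refine ⟨by rwa [S0279.result hq _ hn], fun 𝔐 hM => ?_⟩
  obtain ⟨K, _, _, θ, M, _, C⟩ := H120.GLB.Ctx.exists_ctx F (n + 1)
  have ctx : CtxQ θ (-(q : ℤ)) M (n + 1) := H614.GU.ctxQ_of_ctx C (by rw [Nat.card_eq_fintype_card]; exact hq)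
  have hQ : (l : ℤ) ∣ -(q : ℤ) - 1 := by
    rw [← neg_add', Int.dvd_neg, ← Nat.cast_succ]
    exact Int.natCast_dvd_natCast.2 (hg.trans (Nat.gcd_dvd_right _ _))
  have hF : (l : F) ≠ 0 := fun e => by
    obtain ⟨k, hk⟩ := hQ
    have h1 := congrArg (Int.cast : ℤ → F) hk
    have h3 := FiniteField.cast_card_eq_zero F
    rw [hq] at h3
    push_cast at h1 h3
    rw [e, pow_eq_zero_iff two_ne_zero |>.1 h3, zero_mul, neg_zero, zero_sub, neg_eq_zero] at h1
    exact one_ne_zero h1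
  obtain ⟨A, h3, h4⟩ := (boxA F K θ _ M _ l hl.out hF C ctx).2 q hq rfl
  refine ⟨_, _, inferInstance, (A.d (n + 1)).ker, inferInstance, A.Z (n + 1),
    (SpecialLinearGroup.toGL.comp (SU (n + 1) F q).subtype).codRestrict (GU (n + 1) F q) fun x => x.2,
    (hU F K θ _ M _ l _ A 𝔐 hM h2 hQ (fun δ h5 h6 => (cells F K θ _ M _ l 𝔐 hM h2 hQ δ h5 h6).2 q hq rfl A h3 h4) _ n.succ_pos
      le_rfl).2, cen_Z A _, fun x y e => Subtype.ext (SpecialLinearGroup.toGL_injective (congrArg Subtype.val e)), ?_,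
    fun y hy => ?_⟩
  · ext g
    rw [MonoidHom.mem_ker, Amb.d, h3]
    exact ⟨fun ⟨y, hy⟩ => dK_eq_one.2 (hy ▸ Units.ext y.1.2),
      fun h => ⟨⟨⟨g.1, congrArg Units.val (dK_eq_one.1 h)⟩, g.2⟩, Subtype.ext (Units.ext rfl)⟩⟩
  · obtain ⟨c, h5, h6, rfl⟩ := (LieClassical.SUBasic.mem_center_SU_iff hq hn y).1 hy
    rw [Amb.Z, h3]
    exact scl_of_eq (c := c) rfl

theorem not_four (h2 : l ≠ 2) (h : l ∣ 4) : False :=
  h2 ((Nat.prime_dvd_prime_iff_eq hl.out Nat.prime_two).1 (hl.out.dvd_of_dvd_pow (n := 2) h))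

theorem pow_six : ∀ g : Multiplicative (ZMod 3 × ZMod 2 × ZMod 2), g ^ 6 = 1 := by decide +kernel

/-- **the row of the linear groups** -/
theorem row_psl (hU : BoxU) (hR : BoxR) : For RowP GPsl := by
  rintro l hl S _ _ _ - ⟨F, _, _, n, h2, hg, hn, h4, ⟨e⟩⟩
  refine RowP.of_equiv e ?_
  by_cases hexc : (n, Fintype.card F) ∈ ({(2, 4), (2, 9), (3, 2), (3, 4), (4, 2)} : Set (ℕ × ℕ))
  · simp only [Set.mem_insert_iff, Set.mem_singleton_iff, Prod.mk.injEq] at hexc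
    have h1 := S0243.result (F := F) rfl n hn
    have h5 := hg.trans (Nat.gcd_dvd_left _ _)
    rcases hexc with ⟨rfl, h⟩ | ⟨rfl, h⟩ | ⟨rfl, h⟩ | ⟨rfl, h⟩ | ⟨rfl, h⟩
    · exact (not_four h2 (h5.trans (by norm_num))).elim
    · exact (not_four h2 (h5.trans (by norm_num))).elim
    · rw [h] at hg
      exact absurd hg hl.out.not_dvd_one
    · obtain rfl := (Nat.prime_dvd_prime_iff_eq hl.out Nat.prime_three).1 h5
      rw [h] at h1
      norm_num only [Fin.prod_univ_succ, _root_.Fin.coe_ofNat_eq_mod, _root_.pow_zero, _root_.Nat.add_one_sub_one, _root_.Fin.val_succ, _root_.zero_add, _root_.pow_one, _root_.Finset.univ_unique, _root_.Fin.default_eq_zero, _root_.Fin.val_eq_zero, _root_.Finset.prod_const, _root_.Finset.card_singleton] at h1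
      exact Cl.row_small (X := XP) (by omega)
    · exact (not_four h2 h5).elim
  obtain ⟨n, rfl⟩ : ∃ m, n = m + 1 := ⟨n - 1, by omega⟩
  have : NeZero (Nat.gcd (n + 1) (Fintype.card F - 1)) := ⟨Nat.gcd_ne_zero_left n.succ_ne_zero⟩
  refine (emb_SL hU h2 hg).row hR ?_ (S2086.result rfl _ hn h4 hexc)
    (by rw [S0280.card_center_SL n.succ_pos, BHZ.Nil.card_mult_zmod])
  rcases hn.eq_or_lt with h | h
  · obtain rfl : n = 1 := by omega
    exact H259.NatMod.commutator_eq_top (h4 rfl)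
  · exact S0248.result _ h

/-- **the row of the unitary groups** -/
theorem row_psu (hU : BoxU) (hR : BoxR)
    (h62 : ∀ (F : Type) [Field F] [Fintype F], Fintype.card F = 4 → Cov XP 2 3 (PSU 6 F 2)) : For RowP GPsu := by
  rintro l hl S _ _ _ - ⟨F, _, _, n, q, h2, hg, hq, hn, h4, ⟨e⟩⟩
  refine RowP.of_equiv e ?_
  by_cases hexc : (n, q) ∈ ({(4, 2), (4, 3), (6, 2)} : Set (ℕ × ℕ))
  · simp only [Set.mem_insert_iff, Set.mem_singleton_iff, Prod.mk.injEq] at hexc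
    rcases hexc with ⟨rfl, rfl⟩ | ⟨rfl, rfl⟩ | ⟨rfl, rfl⟩
    · exact absurd hg hl.out.not_dvd_one
    · exact (not_four h2 hg).elim
    · obtain rfl := (Nat.prime_dvd_prime_iff_eq hl.out Nat.prime_three).1 hg
      intro K _ _ σ M B D H
      obtain ⟨f, hf⟩ := H95.StemCover.exists_surj_ker (S2091.result hq) H.qs.1.commutator_eq_top σ H.surj H.ker.le
      have h5 : Nat.card (Subgroup.center K) ∣ 6 := by
        have hc : IsCyclic σ.ker := H.ker ▸ H.cyc
        rw [← H.ker, ← IsCyclic.exponent_eq_card]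
        exact (MonoidHom.exponent_dvd hf).trans (Monoid.exponent_dvd_of_forall_pow_eq_one pow_six)
      have h6 := H.zp
      have h7 := Nat.le_of_dvd (by norm_num) h5
      obtain h8 | h8 : Nat.card (Subgroup.center K) = 1 ∨ Nat.card (Subgroup.center K) = 2 := by
        generalize Nat.card (Subgroup.center K) = m at h5 h6 h7
        interval_cases m <;> omega
      · exact (emb_SU (n := 5) hU h2 hq hn hg).one hR K σ M B D H h8
      · exact h62 F hq K σ M B D H h8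
  obtain ⟨n, rfl⟩ : ∃ m, n = m + 1 := ⟨n - 1, by omega⟩
  have : NeZero (Nat.gcd (n + 1) (q + 1)) := ⟨Nat.gcd_ne_zero_left n.succ_ne_zero⟩
  exact (emb_SU hU h2 hq hn hg).row hR (LieClassical.HermPerfect.commutator_SU_eq_top hq hn h4) (S2089.result _ q hq hn h4 hexc)
    (by rw [S0279.result hq _ hn, BHZ.Nil.card_mult_zmod])

end Cfsg.Agent.BZ.A
end

-- part: BZ/L/Cl/A
section
/-!
# BZ: the rows of type `A`, `l` odd and prime to the order of the centre (helper56)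

`bz_norm`, `bz_inj` : normal subgroups of index prime to `l` modulo the centre; `bz_GL`, `bz_GU`, `bz_SL`, `bz_SU`;
**`psl_good`, `psu_good`**.
-/

set_option autoImplicit false
set_option linter.unusedSectionVars false

namespace Cfsg.Agent.BZ.Cl

open Cfsg Cfsg.Agent.Blocks Cfsg.Agent.KM Cfsg.Agent.KM.BK Cfsg.Agent.DL Cfsg.Agent.TID.Red Matrix

variable {l : ℕ} [hl : Fact l.Prime]

section Norm

variable {M : Ideal AlgInt} {H : Type} [Group H] [Finite H]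

theorem bz_nu (hM : IsPModular l M) (N : Subgroup H) [N.Normal]
    (hd : ∀ (χ : IrrCharacter H) (θ : IrrCharacter N), Ov N.subtype (χ : H → ℂ) (θ : N → ℂ) → nu l χ = nu l θ)
    (h : BX XP l M H) : BX XP l M N := fun b D hb hD hz => by
  obtain ⟨B, P, hB, hP, h1, h2⟩ := up_norm hM N hb hD
  have := Local.isPrime_of_isPModular hM
  have := Fintype.ofFinite H
  have := Fintype.ofFinite N
  obtain ⟨θ, hθ⟩ := Basic.isPBlock_nonempty hb
  obtain ⟨χ, h3, h4⟩ := h2 θ hθ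
  have h5 : ∀ ξ ∈ B, nu l ξ = nu l θ := fun ξ hξ => by
    obtain ⟨ψ, h6⟩ := TO.Cov.exists_under N ξ.2
    obtain ⟨g, θ', h7, h8⟩ := S0964.result l M hM N B hB b hb χ h3 θ hθ ((ov_subtype_iff N _ _).1 h4) ξ hξ ψ h6
    rw [hd ξ ψ ((ov_subtype_iff N _ _).2 h6), ← (eq_iff_hz.2 hz θ' h7 θ hθ).antisymm (eq_iff_hz.2 hz θ hθ θ' h7)]
    unfold nu charDegree
    have h9 := h8 1
    simp only [OneMemClass.coe_one, mul_one, mul_inv_cancel] at h9
    rw [h9]
    rfl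
  have h6 := h B P hB hP (eq_iff_hz.1 fun ξ hξ ξ' hξ' => ((h5 ξ hξ).trans (h5 ξ' hξ').symm).le)
  exact fun x hx y hy => Subtype.ext (h6 _ (h1.ge ⟨x, hx, rfl⟩).1 _ (h1.ge ⟨y, hy, rfl⟩).1)

theorem bx_equiv {X : Bad} (hX : Lf X) (hM : IsPModular l M) {K : Type} [Group K] (e : H ≃* K) (h : BX X l M H) : BX X l M K :=
  bx_quot hX hM e.toMonoidHom e.surjective (by
    rw [(MonoidHom.ker_eq_bot_iff _).2 e.injective, Subgroup.card_bot]
    exact hl.out.not_dvd_one) h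

theorem bz_index (hM : IsPModular l M) (N : Subgroup H) [N.Normal] (hi : ¬ l ∣ N.index) (h : BX XP l M H) : BX XP l M N :=
  bz_nu hM N (nu_of_index hi) h

theorem bz_norm (hM : IsPModular l M) (N : Subgroup H) [N.Normal] (hi : ¬ l ∣ (N ⊔ Subgroup.center H).index)
    (h : BX XP l M H) : BX XP l M N := by
  have h1 : N.subgroupOf (N ⊔ Subgroup.center H) ⊔ Subgroup.center _ = ⊤ := top_le_iff.1 fun x _ => by
    obtain ⟨a, ha, z, hz, h1⟩ := Subgroup.mem_sup_of_normal_right.1 x.2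
    rw [show x = ⟨a, Subgroup.mem_sup_left ha⟩ * ⟨z, Subgroup.mem_sup_right hz⟩ from Subtype.ext h1.symm]
    exact Subgroup.mul_mem_sup ha (Subgroup.mem_center_iff.2 fun g => Subtype.ext (Subgroup.mem_center_iff.1 hz g))
  have := normal_of_sup_center h1
  exact bx_equiv lfP hM (Subgroup.subgroupOfEquivOfLe (le_sup_left : N ≤ N ⊔ Subgroup.center H))
    (bz_nu hM _ (nu_of_center h1) (bz_index hM _ hi h))

theorem bz_inj (hM : IsPModular l M) {K : Type} [Group K] (ι : K →* H) (hι : Function.Injective ι) [ι.range.Normal]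
    (hi : ¬ l ∣ (ι.range ⊔ Subgroup.center H).index) (h : BX XP l M H) : BX XP l M K :=
  bx_equiv lfP hM (MonoidHom.ofInjective hι).symm (bz_norm hM _ hi h)

theorem not_dvd_index {N : Subgroup H} [N.Normal] {a b : ℕ} (ha : ∀ g, g ^ a ∈ N) (hb : ∀ g, g ^ b ∈ N) (h : ¬ l ∣ Nat.gcd a b) :
    ¬ l ∣ N.index := fun e => by
  obtain ⟨x, hx⟩ := exists_prime_orderOf_dvd_card' (G := H ⧸ N) l e
  obtain ⟨g, rfl⟩ := QuotientGroup.mk_surjective x
  exact h (hx ▸ Nat.dvd_gcd (orderOf_dvd_of_pow_eq_one ((QuotientGroup.eq_one_iff _).2 (ha g)))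
    (orderOf_dvd_of_pow_eq_one ((QuotientGroup.eq_one_iff _).2 (hb g))))

end Norm

section A

open Cfsg.Agent.ODD.C2 Cfsg.Agent.ODD.C2.GlA Cfsg.Agent.KZ.Dat

section Nat

variable {n : ℕ} {k : Type} [Field k] {p : ℕ} [Fact p.Prime] [CharP k p] [IsAlgClosed k]
  (hk : ∀ a : k, ∃ j, 0 < j ∧ a ^ p ^ j = a) {e : ℕ} (he : 0 < e)

theorem bas_A : (Matrix.of fun i : Fin (n + 1) => (Pi.single i 1 : Fin (n + 1) → ℤ)) * ((2 : ℤ) • (1 : Matrix (Fin (n + 1)) (Fin (n + 1)) ℤ)) =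
    (2 : ℤ) • (1 : Matrix (Fin (n + 1)) (Fin (n + 1)) ℤ) := by
  rw [Matrix.mul_smul, Matrix.mul_one]
  exact congrArg _ (Matrix.ext fun i j => by simp [one_apply, Pi.single_apply, eq_comm])

theorem chr_one (i : Fin (n + 1)) (c : Fin (n + 1) → kˣ) : chr (Pi.single i 1) c = c i := by
  simp [chr_apply, Pi.single_apply]

theorem natL : Nt (datL n hk he) (MonoidHom.id _) (fun j => Pi.single j 1) e ((p ^ e : ℕ) : ℤ) where
  f0 := he
  eq := Or.inl rfl
  ker g _ hg y _ := by rw [show g = 1 from hg, mul_one, one_mul]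
  dg c := (coe_τA c).trans (congrArg diagonal (funext fun a => congrArg _ (chr_one a c).symm))
  fr := ⟨1, fun j => by
    show (Pi.single j 1 : Fin (n + 1) → ℤ) ᵥ* ((p : ℤ) ^ e • (1 : Matrix (Fin (n + 1)) (Fin (n + 1)) ℤ)) = _
    rw [vecMul_smul, vecMul_one, Nat.cast_pow]
    rfl⟩
  bas := ⟨id, _, bas_A, fun i => Or.inr ⟨i, Or.inl rfl⟩⟩

theorem natU : Nt (datU n hk he) (MonoidHom.id _) (fun j => Pi.single j 1) e (-((p ^ e : ℕ) : ℤ)) where
  f0 := he
  eq := Or.inr rfl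
  ker g _ hg y _ := by rw [show g = 1 from hg, mul_one, one_mul]
  dg c := (coe_τA c).trans (congrArg diagonal (funext fun a => congrArg _ (chr_one a c).symm))
  fr := ⟨Fin.revPerm, fun j => by
    show (Pi.single j 1 : Fin (n + 1) → ℤ) ᵥ* ((p : ℤ) ^ e • BA n) = -((p ^ e : ℕ) : ℤ) • (Pi.single j.rev 1 : Fin (n + 1) → ℤ)
    have h1 := single_BA j.rev
    rw [Fin.rev_rev] at h1
    rw [vecMul_smul, h1, Nat.cast_pow, smul_neg, neg_smul]⟩
  bas := ⟨id, _, bas_A, fun i => Or.inr ⟨i, Or.inl rfl⟩⟩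

end Nat

variable {F : Type} [Field F] [Fintype F] {M : Ideal AlgInt}

theorem bz_GL (h2 : l ≠ 2) (h : (l : F) ≠ 0) (n : ℕ) (hM : IsPModular l M) : BX XP l M (GL (Fin (n + 1)) F) := by
  obtain ⟨p, _, e, k, _, _, _, f, hk, he, hF⟩ := hasL F
  have := (datL n hk he).amb.finite_GF (GA n k)
  exact bx_equiv lfP hM (eqvL f hF).symm ((natL hk he).bz (A.pi1_A hk he _) (fun s _ _ => A.lev_A hk he _ s) h2 (A.ne_of_cast f h) hM)

theorem bz_GU (h2 : l ≠ 2) (h : (l : F) ≠ 0) (n : ℕ) {q : ℕ} (hq : Fintype.card F = q ^ 2) (hM : IsPModular l M) :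
    BX XP l M (GU (n + 1) F q) := by
  obtain ⟨p, _, e, k, _, _, _, f, hk, he, rfl⟩ := hasU F hq
  have := (datU n hk he).amb.finite_GF (GA n k)
  exact bx_equiv lfP hM (eqvU f hk he hq).symm ((natU hk he).bz (A.pi1_A hk he _) (fun s _ _ => A.lev_A hk he _ s) h2 (A.ne_of_cast f h) hM)

theorem bz_SL (h2 : l ≠ 2) (h : (l : F) ≠ 0) (n : ℕ) (hg : ¬ l ∣ Nat.gcd (n + 1) (Fintype.card F - 1)) (hM : IsPModular l M) :
    BX XP l M (_root_.Matrix.SpecialLinearGroup (Fin (n + 1)) F) := by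
  have : (SpecialLinearGroup.toGL : _root_.Matrix.SpecialLinearGroup (Fin (n + 1)) F →* _).range.Normal := by
    rw [A.range_SL]; infer_instance
  refine bz_inj hM _ SpecialLinearGroup.toGL_injective (not_dvd_index (fun g => ?_) (fun g => ?_) hg) (bz_GL h2 h n hM)
  · rw [← inv_mul_cancel_right (g ^ (n + 1)) (A.sc F _ (GeneralLinearGroup.det g))]
    refine Subgroup.mul_mem_sup ?_ (Subgroup.mem_center_iff.2 fun x => (A.sc_comm _ x).eq.symm)
    rw [A.range_SL, MonoidHom.mem_ker, map_mul, map_pow, map_inv, mul_inv_eq_one]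
    ext
    simp [A.sc, Matrix.algebraMap_eq_diagonal]
  · refine Subgroup.mem_sup_left ?_
    rw [A.range_SL, MonoidHom.mem_ker, map_pow, ← Nat.card_eq_fintype_card, ← Nat.card_units, pow_card_eq_one']

theorem bz_SU (h2 : l ≠ 2) (h : (l : F) ≠ 0) {n q : ℕ} (hq : Fintype.card F = q ^ 2) (hn : 1 ≤ n)
    (hg : ¬ l ∣ Nat.gcd (n + 1) (q + 1)) (hM : IsPModular l M) : BX XP l M (SU (n + 1) F q) := by
  let ι : SU (n + 1) F q →* GU (n + 1) F q :=
    (SpecialLinearGroup.toGL.comp (SU (n + 1) F q).subtype).codRestrict _ fun x => x.2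
  have h1 : ι.range = (GeneralLinearGroup.det : GL (Fin (n + 1)) F →* Fˣ).ker.subgroupOf (GU (n + 1) F q) := by
    ext g
    exact ⟨fun ⟨y, hy⟩ => hy ▸ Units.ext y.1.2,
      fun h => ⟨⟨⟨g.1, congrArg Units.val h⟩, g.2⟩, Subtype.ext (Units.ext rfl)⟩⟩
  have : ι.range.Normal := h1 ▸ inferInstance
  obtain ⟨φ, h3, h4⟩ := S0783.result hq (n + 1) (by omega)
  refine bz_inj hM ι (fun x y e => Subtype.ext (SpecialLinearGroup.toGL_injective (congrArg Subtype.val e))) ?_ (bz_GU h2 h n hq hM)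
  rwa [h1, ← h4, Subgroup.index_ker, MonoidHom.range_eq_top.2 h3, Subgroup.card_top, BHZ.Nil.card_mult_zmod]

theorem small3 {N : ℕ} (h2 : l ≠ 2) (i j m : ℕ) (h : N = 2 ^ i * (3 ^ j * m)) (hm : m ∣ 385) (h3 : l = 3 → j ≤ 2) :
    ¬ l ^ 3 ∣ N := fun e => by
  have h4 := (((Nat.coprime_primes hl.out Nat.prime_two).2 h2).pow 3 i).dvd_of_dvd_mul_left (h ▸ e)
  by_cases e3 : l = 3
  · have h5 := h3 e3
    subst e3
    have h6 := (Nat.Coprime.coprime_dvd_right hm (by norm_num : (3 ^ 3).Coprime 385)).dvd_of_dvd_mul_right h4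
    have := (Nat.pow_dvd_pow_iff_le_right (by norm_num)).1 h6
    omega
  have h5 := ((((Nat.coprime_primes hl.out Nat.prime_three).2 e3).pow 3 j).dvd_of_dvd_mul_left h4).trans hm
  have h6 : l < 8 := lt_of_pow_lt_pow_left₀ 3 (by norm_num) ((Nat.le_of_dvd (by norm_num) h5).trans_lt (by norm_num))
  have := hl.out.two_le
  interval_cases l <;> omega

/-- **`L_n(q)`, `l ∤ (n, q - 1)`** -/
theorem psl_good (h2 : l ≠ 2) {n : ℕ} (hF : (l : F) ≠ 0) (hn : 2 ≤ n) (h4 : n = 2 → 4 ≤ Fintype.card F)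
    (hg : ¬ l ∣ Nat.gcd n (Fintype.card F - 1)) : RowP l (ProjectiveSpecialLinearGroup (Fin n) F) := by
  have h1 := S0243.result (F := F) rfl n hn
  by_cases hexc : (n, Fintype.card F) ∈ ({(2, 4), (2, 9), (3, 2), (3, 4), (4, 2)} : Set (ℕ × ℕ))
  · simp only [Set.mem_insert_iff, Set.mem_singleton_iff, Prod.mk.injEq] at hexc
    refine row_small (X := XP) ?_
    rcases hexc with ⟨rfl, h⟩ | ⟨rfl, h⟩ | ⟨rfl, h⟩ | ⟨rfl, h⟩ | ⟨rfl, h⟩ <;> rw [h] at h1 <;>
      norm_num only [Fin.prod_univ_succ, _root_.one_mul, _root_.Fin.coe_ofNat_eq_mod, _root_.pow_zero, _root_.Nat.add_one_sub_one, _root_.Finset.univ_unique, _root_.Fin.default_eq_zero, _root_.Fin.val_succ, _root_.Fin.val_eq_zero, _root_.zero_add, _root_.pow_one, _root_.Finset.prod_const, _root_.Finset.card_singleton] at h1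
    · exact small3 h2 2 1 5 (by omega) (by norm_num) (by norm_num)
    · exact small3 h2 3 2 5 (by omega) (by norm_num) (by norm_num)
    · exact small3 h2 3 1 7 (by omega) (by norm_num) (by norm_num)
    · exact small3 h2 6 2 35 (by omega) (by norm_num) (by norm_num)
    · exact small3 h2 6 2 35 (by omega) (by norm_num) (by norm_num)
  obtain ⟨n, rfl⟩ : ∃ m, n = m + 1 := ⟨n - 1, by omega⟩
  have h3 : Nat.card (QuotientGroup.mk' (Subgroup.center (_root_.Matrix.SpecialLinearGroup (Fin (n + 1)) F))).ker =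
      Nat.gcd (n + 1) (Fintype.card F - 1) := by rw [QuotientGroup.ker_mk', S0280.card_center_SL n.succ_pos]
  refine row_mult lfP (QuotientGroup.mk' _) (QuotientGroup.mk'_surjective _) (QuotientGroup.ker_mk' _).le ?_ (h3 ▸ hg) (a := 0)
    (S2086.result rfl _ hn h4 hexc) (by rw [h3, BHZ.Nil.card_mult_zmod, pow_zero, mul_one]) fun M => bz_SL h2 hF n hg
  rcases hn.eq_or_lt with h | h
  · obtain rfl : n = 1 := by omega
    exact H259.NatMod.commutator_eq_top (h4 rfl)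
  · exact S0248.result _ h

/-- **`U_n(q)`, `l ∤ (n, q + 1)`**; `U₄(2) ≅ S₄(3)` comes from the row in the defining characteristic -/
theorem psu_good (lie : For RowP CLie) (h2 : l ≠ 2) {S : Type} [Group S] [Finite S] [IsSimpleGroup S] (hn' : ¬ IsMulCommutative S) {n q : ℕ}
    (hF : (l : F) ≠ 0) (hq : Fintype.card F = q ^ 2) (hn : 3 ≤ n) (h4 : ¬ (n = 3 ∧ q = 2))
    (hg : ¬ l ∣ Nat.gcd n (q + 1)) (e : S ≃* PSU n F q) : RowP l S := by
  have h1 := BHZ.Nil.not_dvd_card hF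
  have h0 := S0280.result hq n (by omega)
  have h5 := Nat.card_congr e.toEquiv
  by_cases hexc : (n, q) ∈ ({(4, 2), (4, 3), (6, 2)} : Set (ℕ × ℕ))
  · simp only [Set.mem_insert_iff, Set.mem_singleton_iff, Prod.mk.injEq] at hexc
    rw [hq] at h1
    rcases hexc with ⟨rfl, rfl⟩ | ⟨rfl, rfl⟩ | ⟨rfl, rfl⟩ <;> norm_num only [Finset.prod_range_succ, Nat.even_iff, _root_.one_mul, _root_.Finset.range_one, _root_.Finset.prod_singleton, _root_.ite_true, _root_.ite_false] at h0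
    · by_cases h3 : l = 3
      · subst h3
        obtain ⟨e'⟩ := S0822.result (F := F) (K := ZMod 3) hq (by simp)
        exact lie 3 S hn' (Or.inr (Or.inl ⟨ZMod 3, inferInstance, inferInstance, inferInstance, 2, le_rfl,
          fun _ => by simp, ⟨e.trans e'⟩⟩))
      · exact row_small (X := XP) (small3 h2 6 4 5 (by omega) (by norm_num) fun h => absurd h h3)
    · exact row_small (X := XP) (small3 h2 7 6 35 (by omega) (by norm_num) fun h => absurd (by norm_num [h]) h1)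
    · exact row_small (X := XP) (small3 h2 15 6 385 (by omega) (by norm_num) fun h => absurd (by norm_num [h]) hg)
  obtain ⟨n, rfl⟩ : ∃ m, n = m + 1 := ⟨n - 1, by omega⟩
  have h3 : Nat.card (QuotientGroup.mk' (Subgroup.center (SU (n + 1) F q))).ker = Nat.gcd (n + 1) (q + 1) := by
    rw [QuotientGroup.ker_mk', S0279.result hq _ hn]
  exact RowP.of_equiv e (row_mult lfP (QuotientGroup.mk' _) (QuotientGroup.mk'_surjective _) (QuotientGroup.ker_mk' _).le
    (LieClassical.HermPerfect.commutator_SU_eq_top hq hn h4) (h3 ▸ hg) (a := 0) (S2089.result _ q hq hn h4 hexc)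
    (by rw [h3, BHZ.Nil.card_mult_zmod, pow_zero, mul_one]) fun M => bz_SU h2 hF hq (by omega) hg)

end A

end Cfsg.Agent.BZ.Cl
end
end

-- part: BZ/D/Main_mg
section
set_option linter.all false
open scoped Cfsg.Agent.FastGrp

-- part: BZ/D/Fr
section
/-!
# BZ, defining characteristic: the frame (helper29)

* `rt_of_dg`, `rt` : a defect group `≠ 1` maps to a `RegTriv` subgroup (so it is a Sylow subgroup, `Ce.syl_of_rt`);
* `top` : a character which is not of defect zero lies in a block of maximal defect; `mem` : it lies in `B`.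
-/

set_option autoImplicit false
set_option linter.unusedSectionVars false

namespace Cfsg.Agent.BZ.D

open Cfsg Subgroup Cfsg.Agent.BZ.T Cfsg.Agent.BHZ.Spor

variable {p : ℕ} [hp : Fact p.Prime] {M : Ideal AlgInt} {K S : Type} [Group K] [Finite K] [Group S] {σ : K →* S}
  {B : Set (IrrCharacter K)} {D : Subgroup K}

theorem rt_of_dg (C : Ce p σ) (hS : IsLieTypeChar p S) (hM : IsPModular p M) (hB : IsPBlock M B)
    (hD : IsDefectGroup p M B D) (h0 : p ∣ Nat.card D) : RegTriv p (D.map σ) := by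
  have := Finite.of_surjective σ C.surj
  have h1 := (locB_of_block hM hB hD).quot σ C.surj C.cen
  have h2 : D.map σ ≠ ⊥ := fun h => by
    have h3 := C.dvd_map (d := 1) (by rwa [pow_one] : p ^ 1 ∣ Nat.card D)
    rw [h, card_bot, pow_one] at h3
    exact hp.out.one_lt.ne' (Nat.dvd_one.1 h3)
  obtain ⟨y, hy, hyp, hyD⟩ := exists_central h1.pg h2 le_rfl fun d hd u hu => mul_mem (mul_mem hd hu) (inv_mem hd)
  exact h1.rt_of_constr hy hyD (constr_of_locChar (HZ.Two.locChar_lie hS) hyp)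

/-- **EXCL in the defining characteristic** -/
theorem rt (H : Hyp p M B D σ) (hS : IsLieTypeChar p S) : RegTriv p (D.map σ) :=
  rt_of_dg H.ce hS H.hM H.hB H.hD ((dvd_pow_self p (by norm_num)).trans H.cube_dvd)

theorem syl (H : Hyp p M B D σ) (hS : IsLieTypeChar p S) : ∃ P : Sylow p K, (P : Subgroup K) = D :=
  H.ce.syl_of_rt H.hM H.hB H.hD (rt H hS)

theorem top (C : Ce p σ) (hS : IsLieTypeChar p S) (hM : IsPModular p M) (χ : IrrCharacter K)
    (h : ¬ p ^ (Nat.card K).factorization p ∣ charDegree (χ : K → ℂ)) : _root_.Cfsg.Agent.BZ.T.Top p M (χ : K → ℂ) := by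
  have h0 : charDegree (χ : K → ℂ) ≠ 0 := fun h0 => h (h0 ▸ dvd_zero _)
  obtain ⟨E, hE, h1⟩ := exists_dg hM χ (d := 1) (by
    have := (hp.out.pow_dvd_iff_le_factorization h0).not.1 h
    omega)
  exact C.top_of_rt hM hE (rt_of_dg C hS hM (Blocks.Basic.isPBlock_blockOf χ) hE (by rwa [pow_one] at h1))

theorem mem (H : Hyp p M B D σ) (hS : IsLieTypeChar p S) {χ ψ : IrrCharacter K} (hψ : ψ ∈ B)
    (ho : Ov σ (χ : K → ℂ) ψ) (h : ¬ p ^ (Nat.card K).factorization p ∣ charDegree (χ : K → ℂ)) : χ ∈ B :=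
  H.mem_of_ov (rt H hS) hψ ho (top H.ce hS H.hM χ h)

end Cfsg.Agent.BZ.D
end

-- part: BZ/D/St
section
/-!
# BZ, defining characteristic: the characters of defect zero are trivial on the centre (helper29)

* `DD_pel` : the dual of a function which vanishes on the `p`-elements `≠ 1` is constant on the `p`-elements;
* `DD_cen` : the duality commutes with central translations;
* `dz_rgd`, `dz_cover` : an irreducible character which vanishes on the `p`-elements `≠ 1` is trivial on the centre.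
-/

set_option autoImplicit false
set_option linter.unusedSectionVars false

namespace Cfsg.Agent.BZ.D

open Cfsg Cfsg.Agent.Characters Cfsg.Agent.Characters.Core Cfsg.Agent.MK.Sp2 Cfsg.Agent.H631.Kaw
open CoxeterSystem Cfsg.Agent.ChevalleyStructure.CoxeterGeom Cfsg.Agent.Tits.Roots Cfsg.Agent.Tits.Core
  Cfsg.Agent.Nodes.Reps Cfsg.Agent.Nodes.BNOf Cfsg.Agent.Nodes.Bruhat Cfsg.Agent.Nodes.LeviDec
  Cfsg.Agent.Nodes.RGDLib

section

variable {I W Y : Type} [Fintype I] [DecidableEq I] [Group W] [Group Y] {M : CoxeterMatrix I} [Fintype W] [Fintype Y]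
  {cs : CoxeterSystem M W} {A : I → I → ℤ} {h : IsCartan M A} {p : ℕ} [hp : Fact p.Prime] {T : Subgroup Y} {n : I → Y}
  {X : (I → ℤ) → Subgroup Y} {f : Y → ℂ}

theorem pel_mul {V : Subgroup Y} (hV : IsPGroup p V) {y v : Y} (hy : ∃ k, orderOf y = p ^ k)
    (hn : y ∈ Subgroup.normalizer (V : Set Y)) (hv : v ∈ V) : ∃ k, orderOf (y * v) = p ^ k := by
  obtain ⟨k, hk⟩ := hy
  have h1 : IsPGroup p (Subgroup.zpowers y) := IsPGroup.of_card (by rw [Nat.card_zpowers, hk])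
  have h2 := h1.to_sup_of_normal_right' hV (Subgroup.zpowers_le.2 hn)
  obtain ⟨j, hj⟩ := IsPGroup.iff_orderOf.1 h2
    ⟨y * v, Subgroup.mul_mem_sup (Subgroup.mem_zpowers y) hv⟩
  exact ⟨j, by rwa [← Subgroup.orderOf_coe] at hj⟩

theorem av_pel {V : Subgroup Y} (hV : IsPGroup p V) (h0 : ∀ y, (∃ k, orderOf y = p ^ k) → y ≠ 1 → f y = 0) {y : Y}
    (hy : ∃ k, orderOf y = p ^ k) (hn : y ∈ Subgroup.normalizer (V : Set Y)) [Decidable (y ∈ V)] :
    av V f y = if y ∈ V then (Nat.card V : ℂ)⁻¹ * f 1 else 0 := by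
  have := Fintype.ofFinite V
  split_ifs with h1
  · rw [av, mn_eq, Finset.sum_eq_single (⟨y⁻¹, inv_mem h1⟩ : V)]
    · simp only [_root_.Nat.card_eq_fintype_card, _root_.mul_inv_cancel]
    · exact fun v _ hv => h0 _ (pel_mul hV hy hn v.2) fun h2 => hv (Subtype.ext (eq_inv_of_mul_eq_one_right h2))
    · exact fun h2 => absurd (Finset.mem_univ _) h2
  · exact mn_zero fun v hv => h0 _ (pel_mul hV hy hn hv) fun h2 => h1 (by
      rw [eq_inv_of_mul_eq_one_left h2]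
      exact inv_mem hv)

theorem EJ_pel (R : RGD cs h p T n X) (h0 : ∀ y, (∃ k, orderOf y = p ^ k) → y ≠ 1 → f y = 0) {u : Y}
    (hu : ∃ k, orderOf u = p ^ k) (J : Finset I) :
    (Nat.card (RGD.Sup X (RGD.Pos cs h)) : ℂ) * EJ cs h T X J f u =
      (Nat.card (UJ cs h X (J : Set I)) : ℂ) * (fixV cs h T X J u : ℂ) * f 1 := by
  classical
  have hV : IsPGroup p (VJ cs h X (J : Set I)) :=
    (R.isPGroup_of_pos (S := RGD.Pos cs h) fun _ hx => ⟨hx.1, hx.2⟩).to_le (VJ_le_U _)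
  have h1 : ∀ x : Y, extendByZero (PJ cs h T X (J : Set I)) (fun y => av (VJ cs h X (J : Set I)) f y) (x⁻¹ * u * x) =
      (if x⁻¹ * u * x ∈ VJ cs h X (J : Set I) then 1 else 0) * ((Nat.card (VJ cs h X (J : Set I)) : ℂ)⁻¹ * f 1) := by
    intro x
    by_cases h2 : x⁻¹ * u * x ∈ PJ cs h T X (J : Set I)
    · rw [extendByZero_of_mem _ _ h2, av_pel hV h0 (by
        obtain ⟨k, hk⟩ := hu
        refine ⟨k, ?_⟩
        rw [← hk]
        exact (MulAut.conj x).symm.orderOf_eq u) (PJ_le_normalizer_VJ R _ h2)]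
      split_ifs <;> simp only [_root_.Nat.card_eq_fintype_card, _root_.one_mul, _root_.MulZeroClass.zero_mul]
    · rw [extendByZero_of_notMem _ _ h2, if_neg fun h3 => h2 (VJ_le_PJ h3), zero_mul]
  have h2 := congrArg (Nat.cast : ℕ → ℂ) (card_eq_fixV R J u)
  rw [card_eq_sum, Nat.cast_mul] at h2
  rw [EJ, ii, indFun_apply, Finset.sum_congr rfl fun x _ => h1 x, ← Finset.sum_mul, h2, H246.Dl.card_U R (J : Set I),
    Nat.cast_mul]
  have h3 : (Nat.card (PJ cs h T X (J : Set I)) : ℂ) ≠ 0 := card_ne_zero_complex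
  have h4 : (Nat.card (VJ cs h X (J : Set I)) : ℂ) ≠ 0 := card_ne_zero_complex
  field_simp

theorem DD_pel (R : RGD cs h p T n X) (hG : GG cs h T X = ⊤) (h0 : ∀ y, (∃ k, orderOf y = p ^ k) → y ≠ 1 → f y = 0)
    {u : Y} (hu : ∃ k, orderOf u = p ^ k) : (Nat.card (RGD.Sup X (RGD.Pos cs h)) : ℂ) * DD cs h T X f u = f 1 := by
  have h1 := congrArg (Int.cast : ℤ → ℂ) (coef_eq_one R hG (mem_pel.2 hu))
  rw [coef] at h1
  push_cast at h1
  refine Eq.trans ?_ ((congrArg (· * f 1) h1).trans (one_mul _))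
  rw [DD, Finset.sum_apply, Finset.mul_sum, Finset.sum_mul]
  refine Finset.sum_congr rfl fun J _ => ?_
  rw [Pi.smul_apply, smul_eq_mul, mul_left_comm, EJ_pel R h0 hu]
  ring

omit hp in
theorem DD_cen {z : Y} (hz : z ∈ Subgroup.center Y) (hT : z ∈ RGD.B cs h T X) (hf : ∀ x, f (z * x) = f x) :
    DD cs h T X f z = DD cs h T X f 1 := by
  rw [DD, Finset.sum_apply, Finset.sum_apply]
  refine Finset.sum_congr rfl fun J _ => ?_
  rw [Pi.smul_apply, Pi.smul_apply, EJ, ii, indFun_apply, indFun_apply]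
  congr 2
  refine Finset.sum_congr rfl fun x _ => ?_
  rw [Subgroup.mem_center_iff.1 hz, mul_assoc, inv_mul_cancel, mul_one, mul_one, inv_mul_cancel,
    extendByZero_of_mem _ _ (B_le_PJ hT), extendByZero_of_mem _ _ (one_mem _)]
  exact mn_congr fun v _ => by rw [hf, one_mul]

theorem dz_rgd (R : RGD cs h p T n X) (hG : G1 cs h X = ⊤) {χ : Y → ℂ} (hχ : IsIrrCharacter Y χ)
    (h0 : ∀ y, (∃ k, orderOf y = p ^ k) → y ≠ 1 → χ y = 0) {z : Y} (hz : z ∈ Subgroup.center Y)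
    (hT : z ∈ RGD.B cs h T X) : χ z = χ 1 := by
  have h2 : GG cs h T X = ⊤ := by
    rw [eq_top_iff, ← hG]
    exact le_sup_right
  have h3 : ∀ u : Y, (∃ k, orderOf u = p ^ k) → DD cs h T X χ u = DD cs h T X χ 1 := fun u hu =>
    mul_left_cancel₀ card_ne_zero_complex
      ((DD_pel R h2 h0 hu).trans (DD_pel R h2 h0 ⟨0, by rw [orderOf_one, pow_zero]⟩).symm)
  have h4 : ∀ ψ : IrrCharacter Y, (∀ u : Y, (∃ k, orderOf u = p ^ k) → (ψ : Y → ℂ) u = (ψ : Y → ℂ) 1) →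
      ∀ g, (ψ : Y → ℂ) g = (ψ : Y → ℂ) 1 := fun ψ hψ g => by
    have h5 : G1 cs h X ≤ H686.CharKit.chKer ψ := by
      refine iSup_le fun x u hu => H686.CharKit.mem_chKer.2 (hψ u ?_)
      obtain ⟨k, hk⟩ := IsPGroup.iff_orderOf.1 (R.pgrp' x.2) ⟨u, hu⟩
      exact ⟨k, by rwa [← Subgroup.orderOf_coe] at hk⟩
    exact H686.CharKit.mem_chKer.1 (h5 (hG ▸ Subgroup.mem_top g))
  have h5 : ∀ g, DD cs h T X χ g = DD cs h T X χ 1 := by
    rcases DD_irr R h2 hχ with h6 | h6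
    · exact h4 ⟨_, h6⟩ h3
    · exact fun g => neg_injective (h4 ⟨_, h6⟩ (fun u hu => congrArg Neg.neg (h3 u hu)) g)
  have h6 := DD_cen (cs := cs) (h := h) (T := T) (X := X) (f := DD cs h T X χ) hz hT fun x => by rw [h5, h5 x]
  rwa [DD_DD R h2 (isIrr_isClassFunction hχ)] at h6

end

/-- **the covers** -/
theorem dz_cover {p : ℕ} [Fact p.Prime] {K S : Type} [Group K] [Finite K] [Group S] {σ : K →* S}
    (hK : commutator K = ⊤) (hs : Function.Surjective σ) (hc : σ.ker ≤ Subgroup.center K)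
    (hz : ¬ p ∣ Nat.card σ.ker) (hS : Nodes.RGDChev.HasRGD p S) {χ : K → ℂ} (hχ : IsIrrCharacter K χ)
    (h0 : ∀ y, (∃ k, orderOf y = p ^ k) → y ≠ 1 → χ y = 0) {z : K} (h1 : z ∈ σ.ker) : χ z = χ 1 := by
  obtain ⟨l, M, A, h, T, n, X, hW, R, hX⟩ := hS
  obtain ⟨n', -, R', hX'⟩ := H905.DC.exists_rgd_lift hK hc
    ((Nat.Prime.coprime_iff_not_dvd Fact.out).2 hz).symm hs R hX
  have := Fintype.ofFinite K
  have := Fintype.ofFinite M.Group
  refine dz_rgd R' hX' hχ h0 (hc h1) (Subgroup.mem_sup_left ?_)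
  rw [Subgroup.mem_comap, MonoidHom.mem_ker.1 h1]
  exact one_mem _

end Cfsg.Agent.BZ.D
end

-- part: BZ/D/Main
section
/-!
# BZ, defining characteristic: a member of positive height (helper29)

* `cen_bot` : the groups of Suzuki and Ree have no covers with a centre of order prime to `p`;
* `not_dz` : no character of defect zero over a central character `≠ 1`;
* `d1`, `d2`, `lieP : For RowP CLie`.
-/

set_option autoImplicit false
set_option linter.unusedSectionVars false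

namespace Cfsg.Agent.BZ.D

open Cfsg Subgroup Cfsg.Agent.BZ.T Cfsg.Agent.BHZ.Spor Cfsg.Agent.KM Cfsg.Agent.Characters.Core

variable {p : ℕ} [hp : Fact p.Prime] {M : Ideal AlgInt} {K S : Type} [Group K] [Finite K] [Group S] {σ : K →* S}
  {B : Set (IrrCharacter K)} {D : Subgroup K}

theorem cen_dvd (H : Hyp p M B D σ) {A : Type} [CommGroup A] (h : HasSchurMultiplier S A) :
    Nat.card (center K) ∣ Nat.card A :=
  H.ker ▸ H95.StemCover.card_ker_dvd h H.qs.1.commutator_eq_top σ H.surj H.ker.le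

theorem cen_one (H : Hyp p M B D σ) (h : HasCyclicSchurMultiplier S 1) : Nat.card (center K) = 1 :=
  Nat.dvd_one.1 (H.ker ▸ H95.StemCover.card_ker_dvd_cyclic h H.qs.1.commutator_eq_top σ H.surj H.ker.le)

theorem rgd_or (H : Hyp p M B D σ) (hS : IsLieTypeChar p S) :
    Nodes.RGDChev.HasRGD p S ∨ Nat.card (center K) = 1 := by
  rcases Nodes.RGDLie.hasRGD_of_lie hS with h | ⟨rfl, F, _, _, m, hm, hF, ⟨e⟩⟩ | ⟨-, F, _, _, m, hm, hF, ⟨e⟩⟩ |
    ⟨-, F, _, _, m, hm, hF, ⟨e⟩⟩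
  · exact .inl h
  · right
    rcases hm.eq_or_lt with rfl | hm
    · have h1 := cen_dvd (H.congr e) (S2112.result hF)
      rw [show Nat.card (Multiplicative (ZMod 2 × ZMod 2)) = 2 ^ 2 by simp] at h1
      exact Nat.eq_one_of_dvd_coprimes ((Nat.prime_two.coprime_iff_not_dvd.2 H.zp).pow_left 2) h1 dvd_rfl
    · exact cen_one (H.congr e) (S2111.result hm hF)
  · exact .inr (cen_one (H.congr e) (S2114.result hm hF))
  · exact .inr (cen_one (H.congr e) (S2113.result hm hF))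

/-- a character of defect zero is trivial on the centre -/
theorem dz_cen (H : Hyp p M B D σ) (hS : IsLieTypeChar p S) {χ : IrrCharacter K}
    (h : p ^ (Nat.card K).factorization p ∣ charDegree (χ : K → ℂ)) {z : K} (hz : z ∈ center K) :
    (χ : K → ℂ) z = (χ : K → ℂ) 1 := by
  rcases rgd_or H hS with h1 | h1
  · refine dz_cover H.qs.1.commutator_eq_top H.surj H.ker.le H.ce.zp h1 χ.2 (fun y ⟨k, hk⟩ hy => ?_) (H.ker ▸ hz)
    refine H713.irr_zero_of_singular (p := p) (le_antisymm ?_ ?_) ?_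
    · exact (Nat.factorization_le_iff_dvd (H686.CharKit.charDegree_pos χ).ne' Nat.card_pos.ne').2
        (H674.Codegree.charDegree_dvd_card χ.2) p
    · exact (hp.out.pow_dvd_iff_le_factorization (H686.CharKit.charDegree_pos χ).ne').1 h
    · rw [hk]
      refine dvd_pow_self p ?_
      rintro rfl
      exact hy (orderOf_eq_one_iff.1 hk)
  · rw [mem_bot.1 ((card_eq_one.1 h1).le hz)]

/-- `ν ≠ 1` : all characters over `ν` lie in `B` -/
theorem mem_ne (H : Hyp p M B D σ) (hS : IsLieTypeChar p S) (hn : Nat.card (center K) ≠ 1) {χ ψ : IrrCharacter K}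
    (hψ : ψ ∈ B) (ho : Ov σ (χ : K → ℂ) ψ) : χ ∈ B := by
  refine mem H hS hψ ho fun h => hn (card_eq_one.2 (eq_bot_iff.2 fun z hz => H.faith ψ hψ z hz ?_))
  have h1 := ho z (H.ker ▸ hz)
  rw [dz_cen H hS h hz, div_self (isIrr_apply_one_ne_zero χ.2), eq_div_iff (isIrr_apply_one_ne_zero ψ.2), one_mul] at h1
  exact h1.symm

theorem xp_ne (H : Hyp p M B D σ) (hS : IsLieTypeChar p S) (hn : Nat.card (center K) ≠ 1) : ¬ XP p K B := by
  intro hX
  let _ := Fintype.ofFinite K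
  let _ := Fintype.ofFinite (center K)
  obtain ⟨ψ, h1, h2⟩ := H.max (rt H hS)
  obtain ⟨θ, d, hθ, hd, h3, h4, -⟩ := H681.DegBasic.exists_constituent (center K) ψ.2
    (Blocks.Basic.irr_one_eq_charDegree ψ.2)
  have h5 : ∀ χ : IrrCharacter K, classInner (fun n : center K => (χ : K → ℂ) n) θ ≠ 0 → ∀ z (hz : z ∈ center K),
      (χ : K → ℂ) z / (χ : K → ℂ) 1 = θ ⟨z, hz⟩ / θ 1 := fun χ h z hz => by
    rw [div_eq_div_iff (isIrr_apply_one_ne_zero χ.2) (isIrr_apply_one_ne_zero hθ), mul_comm (θ _)]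
    exact H625.PHZ.central_eq _ χ.2 hθ h hz hz
  obtain ⟨P, hP⟩ := (H.pg.map (QuotientGroup.mk' (center K))).exists_le_sylow
  have h6 := S4816.result p (center K) ⟨θ, hθ⟩ (fun g n n' e => by
    rw [show n' = n from Subtype.ext (by rw [e, mem_center_iff.1 n.2 g, mul_inv_cancel_right])]) (fun χ h => by
      have h7 : ¬ p ∣ charDegree (χ : K → ℂ) := fun h7 => not_XP_of (mem_ne H hS hn h1 fun z hz =>
        (h5 χ h z (H.ker ▸ hz)).trans (h5 ψ h3 z (H.ker ▸ hz)).symm) h1 h7 h2 hX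
      have h8 : charDegree θ = d := by
        have := Blocks.Basic.irr_one_eq_charDegree hθ
        rw [hd] at this
        exact_mod_cast this.symm
      rw [Nat.factorization_eq_zero_of_not_dvd h7]
      exact (Nat.factorization_eq_zero_of_not_dvd fun h9 => h2 (h9.trans (h8 ▸ h4))).symm) P
  refine H.nab (comm_of_map_comm H.pg (QuotientGroup.mk' (center K)) (QuotientGroup.ker_mk' _).le
    (e := Nat.card (center K)) (fun n hn => ?_) H.zp ⟨⟨fun a b => Subtype.ext ?_⟩⟩)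
  · exact congrArg Subtype.val (pow_card_eq_one' (x := (⟨n, (QuotientGroup.eq_one_iff n).1 hn⟩ : center K)))
  · have h7 := congrArg Subtype.val (h6.1.1 ⟨_, hP a.2⟩ ⟨_, hP b.2⟩)
    exact h7

/-- the cover with trivial centre -/
noncomputable def eqv (H : Hyp p M B D σ) (hn : Nat.card (center K) = 1) : K ≃* S :=
  MulEquiv.ofBijective σ ⟨(MonoidHom.ker_eq_bot_iff σ).1 (H.ker.trans (card_eq_one.1 hn)), H.surj⟩

theorem xp_one [IsSimpleGroup S] (hna : ¬ IsMulCommutative S) (H : Hyp p M B D σ) (hS : IsLieTypeChar p S)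
    (hn : Nat.card (center K) = 1) : ¬ XP p K B := by
  classical
  intro hX
  have e := eqv H hn
  have hK : IsSimpleGroup K := e.isSimpleGroup
  have hL := OddHalf.Known.isLieTypeChar_congr e.symm hS
  have h1 : ∀ χ : IrrCharacter K, p ∣ charDegree (χ : K → ℂ) →
      p ^ (Nat.card K).factorization p ∣ charDegree (χ : K → ℂ) := fun χ h => by
    by_contra h2
    exact H.not_XP (rt H hS) χ (fun z hz _ => mem_bot.1 ((card_eq_one.1 hn).le hz)) (top H.ce hS H.hM χ h2) h hX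
  have h2 : ∀ χ χ' : IrrCharacter K, p ∣ charDegree (χ : K → ℂ) → p ∣ charDegree (χ' : K → ℂ) → χ = χ' :=
    fun χ χ' h h' => by
      have h3 := H716.SplitAb.hasSplitAb_of_lie hp.out hL
      have key : ∀ ψ : IrrCharacter K, p ∣ charDegree (ψ : K → ℂ) → ¬ p ∣ Nat.card K / charDegree (ψ : K → ℂ) :=
        fun ψ hψ h4 => by
          obtain ⟨c, hc⟩ := H674.Codegree.charDegree_dvd_card ψ.2
          refine Nat.pow_succ_factorization_not_dvd (Nat.card_pos (α := K)).ne' hp.out ?_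
          rw [hc, Nat.mul_div_cancel_left _ (H686.CharKit.charDegree_pos ψ)] at h4
          rw [pow_succ]
          exact (mul_dvd_mul (h1 ψ hψ) h4).trans hc.symm.dvd
      exact H330.GowOne.unique_of_hasSplitAb h3 H.qs.1.commutator_eq_top χ χ' (key χ h) (key χ' h')
  obtain ⟨f, hf⟩ : ∃ f : K → ℂ, ∀ χ : IrrCharacter K, p ∣ charDegree (χ : K → ℂ) → (χ : K → ℂ) = f := by
    by_cases h3 : ∃ χ : IrrCharacter K, p ∣ charDegree (χ : K → ℂ)
    · obtain ⟨χ, h3⟩ := h3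
      exact ⟨χ, fun χ' h => by rw [h2 χ' χ h h3]⟩
    · exact ⟨0, fun χ h => absurd ⟨χ, h⟩ h3⟩
  obtain ⟨P, hP⟩ := syl H hS
  have hd : p ∣ Nat.card K := ((dvd_pow_self p (by norm_num)).trans H.cube_dvd).trans (card_subgroup_dvd_card D)
  have h3 : derivedSeries ↥(P : Subgroup K) 1 = ⊥ := by
    rcases H717.Two.two_char hp.out K hK (fun h => hna ⟨⟨fun a b => by
        obtain ⟨a, rfl⟩ := e.surjective a
        obtain ⟨b, rfl⟩ := e.surjective b
        rw [← map_mul, ← map_mul, h.1.1]⟩⟩) hd hL with ⟨α, β, ha, hb, h4⟩ | h4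
    · obtain ⟨s, h5⟩ := h4 1
      exact absurd (by rw [hf α ha, hf β hb]; rfl) h5
    · exact H759.Dl.dlLe_exc hp.out h4 P
  rw [derivedSeries_one, hP] at h3
  exact H.nab ⟨⟨fun a b => commutatorElement_eq_one_iff_mul_comm.1
    (mem_bot.1 (h3.le (commutator_mem_commutator (mem_top a) (mem_top b))))⟩⟩

/-- **S4893 in the defining characteristic** -/
theorem lieP : For RowP CLie := fun _ _ _ _ _ _ hna hS K _ _ _ _ _ _ H =>
  (em (Nat.card (center K) = 1)).elim (xp_one hna H hS) (xp_ne H hS)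

end Cfsg.Agent.BZ.D
end

-- part: BZ/A/Rows2
section
/-!
# BZ, type A: the rows of the linear and unitary groups at the prime two (helper11)

`row_psl2`, `row_psu2`.
-/

set_option autoImplicit false
set_option linter.unusedSectionVars false

namespace Cfsg.Agent.BZ.A

open Cfsg Cfsg.Agent.KM Matrix
open Cfsg.Agent.H577.GLB.Std Cfsg.Agent.H623.GU Cfsg.Agent.H615.GU
open Cfsg.Agent.RC.A (Amb boxA dK_eq_one scl_of_eq)
open Cfsg.Agent.BZ.Cl (BX bz_inj not_dvd_index row_mult lfP)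

namespace Rw2

variable {l : ℕ} [hl : Fact l.Prime] {F : Type} [Field F] [Fintype F] {𝔐 : Ideal AlgInt}

theorem bx_of (hM : IsPModular l 𝔐) {Γ : Type} [Group Γ] [Finite Γ] {Z : Set Γ} (h : Ht0 l 𝔐 Z) : BX XP l 𝔐 Γ :=
  fun B D hB hD hz x hx y hy => by_contra fun e => by
    obtain ⟨χ, h1, -, h2⟩ := h B D hB hD fun k => e (congrArg Subtype.val (k.1.1 ⟨x, hx⟩ ⟨y, hy⟩))
    exact absurd (Desc.hz_le hM hB hD hz h1) h2.not_ge

theorem bx_SL (n : ℕ) (hg : ¬ l ∣ Nat.gcd (n + 1) (Fintype.card F - 1)) (hM : IsPModular l 𝔐)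
    (h : BX XP l 𝔐 (GL (Fin (n + 1)) F)) : BX XP l 𝔐 (_root_.Matrix.SpecialLinearGroup (Fin (n + 1)) F) := by
  have : (SpecialLinearGroup.toGL : _root_.Matrix.SpecialLinearGroup (Fin (n + 1)) F →* _).range.Normal := by
    rw [KM.A.range_SL]; infer_instance
  refine bz_inj hM _ SpecialLinearGroup.toGL_injective (not_dvd_index (fun g => ?_) (fun g => ?_) hg) h
  · rw [← inv_mul_cancel_right (g ^ (n + 1)) (KM.A.sc F _ (GeneralLinearGroup.det g))]
    refine Subgroup.mul_mem_sup ?_ (Subgroup.mem_center_iff.2 fun x => (KM.A.sc_comm _ x).eq.symm)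
    rw [KM.A.range_SL, MonoidHom.mem_ker, map_mul, map_pow, map_inv, mul_inv_eq_one]
    ext
    simp [KM.A.sc, Matrix.algebraMap_eq_diagonal]
  · refine Subgroup.mem_sup_left ?_
    rw [KM.A.range_SL, MonoidHom.mem_ker, map_pow, ← Nat.card_eq_fintype_card, ← Nat.card_units, pow_card_eq_one']

theorem bx_SU {n q : ℕ} (hq : Fintype.card F = q ^ 2) (hn : 1 ≤ n) (hg : ¬ l ∣ Nat.gcd (n + 1) (q + 1)) (hM : IsPModular l 𝔐)
    (h : BX XP l 𝔐 (GU (n + 1) F q)) : BX XP l 𝔐 (SU (n + 1) F q) := by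
  let ι : SU (n + 1) F q →* GU (n + 1) F q :=
    (SpecialLinearGroup.toGL.comp (SU (n + 1) F q).subtype).codRestrict _ fun x => x.2
  have h1 : ι.range = (GeneralLinearGroup.det : GL (Fin (n + 1)) F →* Fˣ).ker.subgroupOf (GU (n + 1) F q) := by
    ext g
    exact ⟨fun ⟨y, hy⟩ => hy ▸ Units.ext y.1.2,
      fun h => ⟨⟨⟨g.1, congrArg Units.val h⟩, g.2⟩, Subtype.ext (Units.ext rfl)⟩⟩
  have : ι.range.Normal := h1 ▸ inferInstance
  obtain ⟨φ, h3, h4⟩ := S0783.result hq (n + 1) (by omega)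
  refine bz_inj hM ι (fun x y e => Subtype.ext (SpecialLinearGroup.toGL_injective (congrArg Subtype.val e))) ?_ h
  rwa [h1, ← h4, Subgroup.index_ker, MonoidHom.range_eq_top.2 h3, Subgroup.card_top, BHZ.Nil.card_mult_zmod]

omit hl

/-- the second part of `Emb` -/
def Eb (𝔐 : Ideal AlgInt) (Y : Type) [Group Y] : Prop :=
  ∃ (Γ : Type) (_ : Group Γ) (_ : Finite Γ) (N : Subgroup Γ) (_ : N.Normal) (Z : Set Γ) (ι : Y →* Γ), Ht 2 𝔐 N Z ∧
    (∀ z ∈ Z, z ∈ Subgroup.center Γ) ∧ Function.Injective ι ∧ ι.range = N ∧ ∀ y ∈ Subgroup.center Y, ι y ∈ Z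

theorem tow_L (hU : BoxU2) (hC : BoxC2) (hF : ((2 : ℕ) : F) ≠ 0) (n : ℕ) (hM : IsPModular 2 𝔐) :
    BX XP 2 𝔐 (GL (Fin (n + 1)) F) ∧ Eb 𝔐 (_root_.Matrix.SpecialLinearGroup (Fin (n + 1)) F) := by
  obtain ⟨K, _, _, θ, M, _, C⟩ := H120.GLB.Ctx.exists_ctx F (n + 1)
  have ctx : CtxQ θ (Fintype.card F : ℤ) M (n + 1) := by
    have := H614.GU.ctxQ_card C
    rwa [Nat.card_eq_fintype_card] at this
  have hQ : Odd (Fintype.card F : ℤ) :=
    Int.odd_coe_nat _ |>.2 (Nat.odd_iff.2 (Nat.two_dvd_ne_zero.1 (BHZ.Nil.not_dvd_card hF)))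
  obtain ⟨A, h3, -⟩ := (boxA F K θ _ M _ 2 Nat.prime_two hF C ctx).1 rfl
  obtain ⟨h4, h5⟩ := hU F K θ _ M _ _ A 𝔐 hM hQ (fun δ h5 h6 => (hC F K θ _ M _ hQ δ h5 h6).1 rfl A h3) _ n.succ_pos le_rfl
  refine ⟨bx_of hM h4, _, _, inferInstance, (A.d (n + 1)).ker, inferInstance, A.Z (n + 1), SpecialLinearGroup.toGL, h5,
    cen_Z A _, SpecialLinearGroup.toGL_injective, ?_, fun y hy => ?_⟩
  · rw [KM.A.range_SL]
    ext g
    rw [MonoidHom.mem_ker, MonoidHom.mem_ker, Amb.d, h3]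
    exact dK_eq_one.symm
  · obtain ⟨_, _, h⟩ := Matrix.SpecialLinearGroup.mem_center_iff.1 hy
    rw [Amb.Z, h3]
    exact scl_of_eq h.symm

theorem odd_q (hF : ((2 : ℕ) : F) ≠ 0) {q : ℕ} (hq : Fintype.card F = q ^ 2) : ¬ 2 ∣ q := fun e =>
  BHZ.Nil.not_dvd_card hF (hq ▸ e.trans (dvd_pow_self q two_ne_zero))

theorem tow_U (hU : BoxU2) (hC : BoxC2) (hF : ((2 : ℕ) : F) ≠ 0) {n q : ℕ} (hq : Fintype.card F = q ^ 2) (hn : 3 ≤ n + 1)
    (hM : IsPModular 2 𝔐) : BX XP 2 𝔐 (GU (n + 1) F q) ∧ Eb 𝔐 (SU (n + 1) F q) := by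
  obtain ⟨K, _, _, θ, M, _, C⟩ := H120.GLB.Ctx.exists_ctx F (n + 1)
  have ctx : CtxQ θ (-(q : ℤ)) M (n + 1) := H614.GU.ctxQ_of_ctx C (by rw [Nat.card_eq_fintype_card]; exact hq)
  have hQ : Odd (-(q : ℤ)) := (Int.odd_coe_nat _ |>.2 (Nat.odd_iff.2 (Nat.two_dvd_ne_zero.1 (odd_q hF hq)))).neg
  obtain ⟨A, h3, -⟩ := (boxA F K θ _ M _ 2 Nat.prime_two hF C ctx).2 q hq rfl
  obtain ⟨h4, h5⟩ := hU F K θ _ M _ _ A 𝔐 hM hQ (fun δ h5 h6 => (hC F K θ _ M _ hQ δ h5 h6).2 q hq rfl A h3) _ n.succ_pos le_rfl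
  refine ⟨bx_of hM h4, _, _, inferInstance, (A.d (n + 1)).ker, inferInstance, A.Z (n + 1),
    (SpecialLinearGroup.toGL.comp (SU (n + 1) F q).subtype).codRestrict (GU (n + 1) F q) fun x => x.2, h5, cen_Z A _,
    fun x y e => Subtype.ext (SpecialLinearGroup.toGL_injective (congrArg Subtype.val e)), ?_, fun y hy => ?_⟩
  · ext g
    rw [MonoidHom.mem_ker, Amb.d, h3]
    exact ⟨fun ⟨y, hy⟩ => dK_eq_one.2 (hy ▸ Units.ext y.1.2),
      fun h => ⟨⟨⟨g.1, congrArg Units.val (dK_eq_one.1 h)⟩, g.2⟩, Subtype.ext (Units.ext rfl)⟩⟩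
  · obtain ⟨c, h5, h6, rfl⟩ := (LieClassical.SUBasic.mem_center_SU_iff hq hn y).1 hy
    rw [Amb.Z, h3]
    exact scl_of_eq (c := c) rfl

theorem pow_twelve : ∀ g : Multiplicative (ZMod 4 × ZMod 3 × ZMod 3), g ^ 12 = 1 := by decide +kernel

end Rw2

open Rw2

/-- **the row of the linear groups at the prime two** -/
theorem row_psl2 (hU : BoxU2) (hC : BoxC2) (hR : BoxR) : For RowP (Ev CPsl) := by
  rintro l hl S _ _ _ hS ⟨rfl, F, _, _, n, hF, hn, h4, ⟨e⟩⟩
  by_cases hexc : (n, Fintype.card F) ∈ ({(2, 4), (2, 9), (3, 2), (3, 4), (4, 2)} : Set (ℕ × ℕ))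
  · simp only [Set.mem_insert_iff, Set.mem_singleton_iff, Prod.mk.injEq] at hexc
    have h1 := BHZ.Nil.not_dvd_card hF
    obtain ⟨rfl, h⟩ : n = 2 ∧ Fintype.card F = 9 := by omega
    obtain ⟨e'⟩ := S0254.result h
    exact Alt.altP 2 S hS ⟨6, by norm_num, ⟨e.trans e'⟩⟩
  refine RowP.of_equiv e ?_
  obtain ⟨n, rfl⟩ : ∃ m, n = m + 1 := ⟨n - 1, by omega⟩
  have : NeZero (Nat.gcd (n + 1) (Fintype.card F - 1)) := ⟨Nat.gcd_ne_zero_left n.succ_ne_zero⟩
  have h3 : Nat.card (Subgroup.center (_root_.Matrix.SpecialLinearGroup (Fin (n + 1)) F)) = Nat.gcd (n + 1) (Fintype.card F - 1) :=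
    S0280.card_center_SL n.succ_pos
  have h5 : commutator (_root_.Matrix.SpecialLinearGroup (Fin (n + 1)) F) = ⊤ := by
    rcases hn.eq_or_lt with h | h
    · obtain rfl : n = 1 := by omega
      exact H259.NatMod.commutator_eq_top (h4 rfl)
    · exact S0248.result _ h
  have h6 := S2086.result rfl _ hn h4 hexc
  by_cases hg : 2 ∣ Nat.gcd (n + 1) (Fintype.card F - 1)
  · exact Emb.row hR ⟨h3 ▸ hg, fun 𝔐 hM => (tow_L hU hC hF n hM).2⟩ h5 h6 (by rw [h3, BHZ.Nil.card_mult_zmod])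
  · exact row_mult lfP (QuotientGroup.mk' _) (QuotientGroup.mk'_surjective _) (QuotientGroup.ker_mk' _).le h5
      (by rwa [QuotientGroup.ker_mk', h3]) (a := 0) h6 (by rw [QuotientGroup.ker_mk', h3, BHZ.Nil.card_mult_zmod, pow_zero, mul_one])
      fun 𝔐 hM => bx_SL n hg hM (tow_L hU hC hF n hM).1

/-- **the row of the unitary groups at the prime two** -/
theorem row_psu2 (hU : BoxU2) (hC : BoxC2) (hR : BoxR)
    (h43 : ∀ (F : Type) [Field F] [Fintype F], Fintype.card F = 9 → Cov XP 3 2 (PSU 4 F 3)) : For RowP (Ev CPsu) := by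
  rintro l hl S _ _ _ - ⟨rfl, F, _, _, n, q, hF, hq, hn, h4, ⟨e⟩⟩
  refine RowP.of_equiv e ?_
  obtain ⟨n, rfl⟩ : ∃ m, n = m + 1 := ⟨n - 1, by omega⟩
  have h3 := S0279.result hq _ hn
  have h7 : 2 ∣ Nat.gcd (n + 1) (q + 1) → Emb 2 (SU (n + 1) F q) := fun hg => ⟨h3 ▸ hg, fun 𝔐 hM => (tow_U hU hC hF hq hn hM).2⟩
  by_cases hexc : (n + 1, q) ∈ ({(4, 2), (4, 3), (6, 2)} : Set (ℕ × ℕ))
  · simp only [Set.mem_insert_iff, Set.mem_singleton_iff, Prod.mk.injEq] at hexc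
    have h1 := odd_q hF hq
    obtain ⟨rfl, rfl⟩ : n = 3 ∧ q = 3 := by omega
    intro K _ _ σ M B D H
    obtain ⟨f, hf⟩ := H95.StemCover.exists_surj_ker (S2090.result hq) H.qs.1.commutator_eq_top σ H.surj H.ker.le
    have h5 : Nat.card (Subgroup.center K) ∣ 12 := by
      have hc : IsCyclic σ.ker := H.ker ▸ H.cyc
      rw [← H.ker, ← IsCyclic.exponent_eq_card]
      exact (MonoidHom.exponent_dvd hf).trans (Monoid.exponent_dvd_of_forall_pow_eq_one pow_twelve)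
    have h6 := H.zp
    have h9 := Nat.le_of_dvd (by norm_num) h5
    obtain h8 | h8 : Nat.card (Subgroup.center K) = 1 ∨ Nat.card (Subgroup.center K) = 3 := by
      generalize Nat.card (Subgroup.center K) = m at h5 h6 h9
      interval_cases m <;> omega
    · exact (h7 (by norm_num)).one hR K σ M B D H h8
    · exact h43 F hq K σ M B D H h8
  have : NeZero (Nat.gcd (n + 1) (q + 1)) := ⟨Nat.gcd_ne_zero_left n.succ_ne_zero⟩
  have h5 := LieClassical.HermPerfect.commutator_SU_eq_top hq hn h4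
  have h6 := S2089.result _ q hq hn h4 hexc
  by_cases hg : 2 ∣ Nat.gcd (n + 1) (q + 1)
  · exact (h7 hg).row hR h5 h6 (by rw [h3, BHZ.Nil.card_mult_zmod])
  · exact row_mult lfP (QuotientGroup.mk' _) (QuotientGroup.mk'_surjective _) (QuotientGroup.ker_mk' _).le h5
      (by rwa [QuotientGroup.ker_mk', h3]) (a := 0) h6 (by rw [QuotientGroup.ker_mk', h3, BHZ.Nil.card_mult_zmod, pow_zero, mul_one])
      fun 𝔐 hM => bx_SU hq (by omega) hg hM (tow_U hU hC hF hq hn hM).1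

end Cfsg.Agent.BZ.A
end
end
end
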